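import Groth.Agent.GeomConnExt.Topology

/-!
# Connected components of a profinite étale-like tower of spaces

`Z → X` is the limit of finite open and closed covers `Y i → X`; then every connected component of `Z`
surjects onto a connected component of `X`, without any quasi-compactness of `X`.
-/

set_option autoImplicit false

namespace Groth.Agent.ConnCompExt

open Set Topology

universe u v w

variable {Z : Type u} {X : Type v} [TopologicalSpace Z] [TopologicalSpace X] {ι : Type w}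
  [Preorder ι] {Y : ι → Type u} [∀ i, TopologicalSpace (Y i)]

/-- A tower of finite open and closed covers with limit `Z`. -/
structure Tower (p : Z → X) (π : ∀ i, Z → Y i) (r : ∀ i, Y i → X) (t : ∀ i j, i ≤ j → Y j → Y i) : Prop where
  cont_p : Continuous p
  closed_p : IsClosedMap p
  compact_p : ∀ x, IsCompact (p ⁻¹' {x})
  cont_π : ∀ i, Continuous (π i)
  surj_π : ∀ i, Function.Surjective (π i)
  cont_r : ∀ i, Continuous (r i)
  open_r : ∀ i, IsOpenMap (r i)
  closed_r : ∀ i, IsClosedMap (r i)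
  fin_r : ∀ i x, (r i ⁻¹' {x}).Finite
  disc_r : ∀ i (c d : Y i), d ∈ closure {c} → r i d = r i c → d = c
  cont_t : ∀ i j h, Continuous (t i j h)
  open_t : ∀ i j h, IsOpenMap (t i j h)
  closed_t : ∀ i j h, IsClosedMap (t i j h)
  r_π : ∀ i z, r i (π i z) = p z
  t_π : ∀ i j h z, t i j h (π j z) = π i z
  basis : ∀ z O, IsOpen O → z ∈ O → ∃ i V, IsOpen V ∧ π i z ∈ V ∧ π i ⁻¹' V ⊆ O
  trans : ∀ i z z', π i z = π i z' → ∃ σ : Z → Z, Continuous σ ∧ (∀ a, p (σ a) = p a) ∧
    (∀ a, π i (σ a) = π i a) ∧ σ z = z' ∧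
    ∀ j, ∃ (j' : ι) (g : Y j' → Y j), Continuous g ∧ ∀ a, π j (σ a) = g (π j' a)

variable [IsDirected ι (· ≤ ·)] [Nonempty ι] {p : Z → X} {π : ∀ i, Z → Y i} {r : ∀ i, Y i → X}
  {t : ∀ i j, i ≤ j → Y j → Y i}

namespace Tower

theorem image_component_eq_univ_and_isPreconnected_limit [PreconnectedSpace X] (T : Tower p π r t) (z₀ : Z) :
    p '' connectedComponent z₀ = Set.univ ∧ IsPreconnected (⋂ i, π i ⁻¹' connectedComponent (π i z₀)) := by
  classical
  haveI : IsDirectedOrder ι := ‹IsDirected ι (· ≤ ·)›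
  let C : ∀ i, Set (Y i) := fun i => connectedComponent (π i z₀)
  have hC : ∀ i, IsClopen (C i) := fun i =>
    (GeomConnExt.exists_mem_connectedComponent (r i ⁻¹' {p z₀}) (T.fin_r i _) (fun A hA hne => by
      have h := isClopen_iff.1 ⟨T.closed_r i A hA.1, T.open_r i A hA.2⟩
      rcases h with h | h
      · exact absurd h (hne.image _).ne_empty
      · obtain ⟨a, ha, hap⟩ := (h.ge (mem_univ (p z₀)))
        exact ⟨a, ha, hap⟩) _).1
  have hrC : ∀ i, r i '' C i = univ := fun i =>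
    (isClopen_iff.1 ⟨T.closed_r i _ (hC i).1, T.open_r i _ (hC i).2⟩).resolve_left
      (Set.Nonempty.ne_empty ⟨_, mem_image_of_mem _ mem_connectedComponent⟩)
  have htC : ∀ i j h, t i j h '' C j = C i := fun i j h => by
    refine Subset.antisymm ?_ ?_
    · refine (isPreconnected_connectedComponent.image _ (T.cont_t i j h).continuousOn).subset_connectedComponent ?_
      exact ⟨_, mem_connectedComponent, T.t_π i j h z₀⟩
    · exact IsClopen.connectedComponent_subset ⟨T.closed_t i j h _ (hC j).1, T.open_t i j h _ (hC j).2⟩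
        ⟨_, mem_connectedComponent, T.t_π i j h z₀⟩
  let Q : Set Z := ⋂ i, π i ⁻¹' C i
  have hQc : IsClosed Q := isClosed_iInter fun i => (hC i).1.preimage (T.cont_π i)
  have hz₀ : z₀ ∈ Q := mem_iInter.2 fun i => mem_connectedComponent
  -- the limit of the components surjects onto each of them
  have hQ : ∀ i, ∀ c ∈ C i, ∃ q ∈ Q, π i q = c := by
    intro i c hc
    let K := p ⁻¹' {r i c} ∩ π i ⁻¹' closure {c}
    have hK : IsCompact K := (T.compact_p _).inter_right (isClosed_closure.preimage (T.cont_π i))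
    obtain ⟨q, hqK, hq⟩ := hK.inter_iInter_nonempty (fun j => π j ⁻¹' C j)
      (fun j => (hC j).1.preimage (T.cont_π j)) fun s => by
        obtain ⟨m, hm⟩ := Finset.exists_le (insert i s)
        have him : i ≤ m := hm i (Finset.mem_insert_self _ _)
        obtain ⟨d, hd, hdc⟩ := (htC i m him).ge hc
        obtain ⟨z, rfl⟩ := T.surj_π m d
        rw [T.t_π] at hdc
        refine ⟨z, ⟨?_, ?_⟩, mem_iInter₂.2 fun j hj => ?_⟩
        · show p z = r i c
          rw [← T.r_π i, hdc]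
        · show π i z ∈ closure {c}
          rw [hdc]
          exact subset_closure (mem_singleton _)
        · show π j z ∈ C j
          rw [← T.t_π j m (hm j (Finset.mem_insert_of_mem hj))]
          exact (htC j m _).le (mem_image_of_mem _ hd)
    exact ⟨q, hq, T.disc_r i c _ hqK.2 ((T.r_π i q).trans hqK.1)⟩
  -- relatively open subsets of the limit have open images
  have hopen : ∀ O, IsOpen O → ∀ i, IsOpen (π i '' (Q ∩ O)) := by
    intro O hO i
    refine isOpen_iff_forall_mem_open.2 ?_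
    rintro _ ⟨q, ⟨hq, hqO⟩, rfl⟩
    obtain ⟨j, V, hV, hqV, hVO⟩ := T.basis q O hO hqO
    obtain ⟨m, him, hjm⟩ := exists_ge_ge i j
    refine ⟨t i m him '' (C m ∩ t j m hjm ⁻¹' V), ?_, T.open_t i m him _ ((hC m).2.inter (hV.preimage (T.cont_t j m hjm))),
      ⟨π m q, ⟨mem_iInter.1 hq m, by show t j m hjm (π m q) ∈ V; rw [T.t_π]; exact hqV⟩, T.t_π i m him q⟩⟩
    rintro _ ⟨d, ⟨hd, hdV⟩, rfl⟩
    obtain ⟨q', hq', rfl⟩ := hQ m d hd
    refine ⟨q', ⟨hq', hVO ?_⟩, (T.t_π i m him q').symm⟩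
    show π j q' ∈ V
    rw [← T.t_π j m hjm]
    exact hdV
  have hpopen : ∀ O, IsOpen O → IsOpen (p '' (Q ∩ O)) := by
    intro O hO
    obtain ⟨i⟩ := (inferInstance : Nonempty ι)
    rw [show p = r i ∘ π i from funext fun z => (T.r_π i z).symm, Set.image_comp]
    exact T.open_r i _ (hopen O hO i)
  suffices hQp : IsPreconnected Q by
    refine ⟨eq_univ_of_forall fun x => ?_, hQp⟩
    obtain ⟨i⟩ := (inferInstance : Nonempty ι)
    obtain ⟨c, hc, rfl⟩ := (hrC i).ge (mem_univ x)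
    obtain ⟨q, hq, rfl⟩ := hQ i c hc
    exact ⟨q, hQp.subset_connectedComponent hz₀ hq, (T.r_π i q).symm⟩
  refine isPreconnected_closed_iff.2 fun A B hA hB hsub hneA hneB => ?_
  by_contra hAB
  have hiff : ∀ q ∈ Q, q ∈ A ↔ q ∉ B := fun q hq =>
    ⟨fun h h' => hAB ⟨q, hq, h, h'⟩, fun h => (hsub hq).resolve_right h⟩
  have hiff' : ∀ q ∈ Q, q ∈ B ↔ q ∉ A := fun q hq =>
    ⟨fun h h' => hAB ⟨q, hq, h', h⟩, fun h => (hsub hq).resolve_left h⟩
  -- one stage separates the two parts on one fibre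
  have hK : IsCompact (p ⁻¹' {p z₀} ∩ (Q ∩ A)) := (T.compact_p _).inter_right (hQc.inter hA)
  choose ii V hV hzV hVB using fun z : ↥(p ⁻¹' {p z₀} ∩ (Q ∩ A)) =>
    T.basis z.1 Bᶜ hB.isOpen_compl ((hiff z.1 z.2.2.1).1 z.2.2.2)
  obtain ⟨s, hs⟩ := hK.elim_finite_subcover (fun z => π (ii z) ⁻¹' V z)
    (fun z => (hV z).preimage (T.cont_π _)) fun z hz => mem_iUnion.2 ⟨⟨z, hz⟩, hzV ⟨z, hz⟩⟩
  obtain ⟨m, hm⟩ := Finset.exists_le (s.image ii)
  have hsep : ∀ z z', z ∈ Q → z' ∈ Q → p z = p z₀ → π m z = π m z' → z ∈ A → z' ∈ A := by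
    intro z z' hz hz' hp hπ hzA
    obtain ⟨w, hw, hwV⟩ := mem_iUnion₂.1 (hs ⟨hp, hz, hzA⟩)
    refine (hiff z' hz').2 (hVB w ?_)
    show π (ii w) z' ∈ V w
    rw [← T.t_π _ m (hm _ (Finset.mem_image_of_mem _ hw)), ← hπ, T.t_π]
    exact hwV
  -- the two parts are saturated over that stage
  have hsat : ∀ a ∈ Q, ∀ b ∈ Q, π m a = π m b → a ∈ A → b ∈ B → False := by
    intro a ha b hb hab haA hbB
    obtain ⟨σ, hσ, hσp, hσm, hσa, hσg⟩ := T.trans m a b hab
    have hσQ : ∀ q ∈ Q, σ q ∈ Q := fun q hq => mem_iInter.2 fun j => by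
      obtain ⟨j', g, hg, hgπ⟩ := hσg j
      show π j (σ q) ∈ C j
      have h1 : π j (σ a) ∈ g '' C j' := ⟨π j' a, mem_iInter.1 ha j', (hgπ a).symm⟩
      rw [hσa] at h1
      have h2 : g '' C j' ⊆ connectedComponent (π j b) :=
        (isPreconnected_connectedComponent.image g hg.continuousOn).subset_connectedComponent h1
      rw [← connectedComponent_eq (mem_iInter.1 hb j)] at h2
      exact h2 ⟨π j' q, mem_iInter.1 hq j', (hgπ q).symm⟩
    have hD : Q ∩ (A ∩ σ ⁻¹' B) = Q ∩ (Bᶜ ∩ σ ⁻¹' Aᶜ) := by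
      ext q
      constructor
      · rintro ⟨hq, h1, h2⟩
        exact ⟨hq, (hiff q hq).1 h1, (hiff' _ (hσQ q hq)).1 h2⟩
      · rintro ⟨hq, h1, h2⟩
        exact ⟨hq, (hiff q hq).2 h1, (hiff' _ (hσQ q hq)).2 h2⟩
    have hcl : IsClosed (p '' (Q ∩ (A ∩ σ ⁻¹' B))) := T.closed_p _ (hQc.inter (hA.inter (hB.preimage hσ)))
    have hop : IsOpen (p '' (Q ∩ (A ∩ σ ⁻¹' B))) := by
      rw [hD]
      exact hpopen _ (hB.isOpen_compl.inter (hA.isOpen_compl.preimage hσ))
    obtain ⟨q, ⟨hq, hqA, hqB⟩, hqy⟩ := ((isClopen_iff.1 ⟨hcl, hop⟩).resolve_left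
      (Set.Nonempty.ne_empty ⟨_, mem_image_of_mem p ⟨ha, haA, (show σ a ∈ B from hσa ▸ hbB)⟩⟩)).ge (mem_univ (p z₀))
    exact (hiff' _ (hσQ q hq)).1 hqB (hsep q (σ q) hq (hσQ q hq) hqy (hσm q).symm hqA)
  obtain ⟨a, ha, haA⟩ := hneA
  obtain ⟨b, hb, hbB⟩ := hneB
  obtain ⟨c, -, ⟨q, ⟨hq, hqB⟩, hqc⟩, q', ⟨hq', hqA'⟩, hq'c⟩ :=
    isPreconnected_connectedComponent (x := π m z₀) (π m '' (Q ∩ Bᶜ)) (π m '' (Q ∩ Aᶜ))
      (hopen _ hB.isOpen_compl m) (hopen _ hA.isOpen_compl m)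
      (fun c hc => by
        obtain ⟨q, hq, rfl⟩ := hQ m c hc
        by_cases h : q ∈ B
        · exact Or.inr ⟨q, ⟨hq, (hiff' q hq).1 h⟩, rfl⟩
        · exact Or.inl ⟨q, ⟨hq, h⟩, rfl⟩)
      ⟨π m a, mem_iInter.1 ha m, a, ⟨ha, (hiff a ha).1 haA⟩, rfl⟩
      ⟨π m b, mem_iInter.1 hb m, b, ⟨hb, (hiff' b hb).1 hbB⟩, rfl⟩
  exact hsat q hq q' hq' (hqc.trans hq'c.symm) ((hiff q hq).2 hqB) ((hiff' q' hq').2 hqA')

omit [IsDirected ι (· ≤ ·)] [Nonempty ι] in
theorem restrict (T : Tower p π r t) (S : Set X) :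
    Tower (S.restrictPreimage p) (fun i (z : p ⁻¹' S) => (⟨π i z.1, show r i (π i z.1) ∈ S by rw [T.r_π]; exact z.2⟩ : r i ⁻¹' S))
      (fun i => S.restrictPreimage (r i))
      (fun i j h (y : r j ⁻¹' S) => (⟨t i j h y.1, show r i (t i j h y.1) ∈ S by
        obtain ⟨z, hz⟩ := T.surj_π j y.1
        rw [← hz, T.t_π, T.r_π, ← T.r_π j, hz]; exact y.2⟩ : r i ⁻¹' S)) := by
  have htr : ∀ i j h (y : Y j), r i (t i j h y) = r j y := fun i j h y => by
    obtain ⟨z, rfl⟩ := T.surj_π j y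
    rw [T.t_π, T.r_π, T.r_π]
  refine
    { cont_p := T.cont_p.restrictPreimage
      closed_p := T.closed_p.restrictPreimage S
      compact_p := fun x => ?_
      cont_π := fun i => ((T.cont_π i).comp continuous_subtype_val).subtype_mk _
      surj_π := fun i y => ?_
      cont_r := fun i => (T.cont_r i).restrictPreimage
      open_r := fun i => (T.open_r i).restrictPreimage S
      closed_r := fun i => (T.closed_r i).restrictPreimage S
      fin_r := fun i x => ((T.fin_r i x.1).preimage Subtype.val_injective.injOn).subset fun y hy => congrArg Subtype.val hy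
      disc_r := fun i c d hd h => Subtype.ext (T.disc_r i _ _ (by
        have := closure_subtype.1 hd
        rwa [image_singleton] at this) (congrArg Subtype.val h))
      cont_t := fun i j h => ((T.cont_t i j h).comp continuous_subtype_val).subtype_mk _
      open_t := fun i j h => ?_
      closed_t := fun i j h => ?_
      r_π := fun i z => Subtype.ext (T.r_π i z.1)
      t_π := fun i j h z => Subtype.ext (T.t_π i j h z.1)
      basis := fun z O hO hz => ?_
      trans := fun i z z' h => ?_ }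
  · refine Subtype.isCompact_iff.2 ?_
    convert T.compact_p x.1 using 1
    ext z
    exact ⟨fun ⟨a, ha, e⟩ => e ▸ congrArg Subtype.val ha,
      fun hz => ⟨⟨z, show p z ∈ S from (show p z = x.1 from hz) ▸ x.2⟩, Subtype.ext hz, rfl⟩⟩
  · obtain ⟨z, hz⟩ := T.surj_π i y.1
    exact ⟨⟨z, show p z ∈ S by rw [← T.r_π i, hz]; exact y.2⟩, Subtype.ext hz⟩
  · intro U hU
    obtain ⟨U', hU', rfl⟩ := isOpen_induced_iff.1 hU
    refine isOpen_induced_iff.2 ⟨_, T.open_t i j h U' hU', ?_⟩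
    ext y
    exact ⟨fun ⟨a, ha, e⟩ => ⟨⟨a, show r j a ∈ S by rw [← htr i j h, e]; exact y.2⟩, ha, Subtype.ext e⟩,
      fun ⟨a, ha, e⟩ => ⟨a.1, ha, congrArg Subtype.val e⟩⟩
  · intro U hU
    obtain ⟨U', hU', rfl⟩ := isClosed_induced_iff.1 hU
    refine isClosed_induced_iff.2 ⟨_, T.closed_t i j h U' hU', ?_⟩
    ext y
    exact ⟨fun ⟨a, ha, e⟩ => ⟨⟨a, show r j a ∈ S by rw [← htr i j h, e]; exact y.2⟩, ha, Subtype.ext e⟩,
      fun ⟨a, ha, e⟩ => ⟨a.1, ha, congrArg Subtype.val e⟩⟩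
  · obtain ⟨O', hO', rfl⟩ := isOpen_induced_iff.1 hO
    obtain ⟨i, V, hV, hzV, hVO⟩ := T.basis z.1 O' hO' hz
    exact ⟨i, Subtype.val ⁻¹' V, hV.preimage continuous_subtype_val, hzV, fun a ha => hVO ha⟩
  · obtain ⟨σ, hσ, hσp, hσi, hσz, hσg⟩ := T.trans i z.1 z'.1 (congrArg Subtype.val h)
    refine ⟨fun a => ⟨σ a.1, show p (σ a.1) ∈ S by rw [hσp]; exact a.2⟩,
      (hσ.comp continuous_subtype_val).subtype_mk _, fun a => Subtype.ext (hσp _), fun a => Subtype.ext (hσi _),
      Subtype.ext hσz, fun j => ?_⟩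
    obtain ⟨j', g, hg, hgπ⟩ := hσg j
    have hgS : ∀ y : r j' ⁻¹' S, r j (g y.1) ∈ S := fun y => by
      obtain ⟨a, ha⟩ := T.surj_π j' y.1
      rw [← ha, ← hgπ, T.r_π, hσp, ← T.r_π j', ha]
      exact y.2
    exact ⟨j', fun y => ⟨g y.1, hgS y⟩, (hg.comp continuous_subtype_val).subtype_mk _, fun a => Subtype.ext (hgπ _)⟩

theorem image_component_eq_univ [PreconnectedSpace X] (T : Tower p π r t) (z₀ : Z) :
    p '' connectedComponent z₀ = Set.univ :=
  (T.image_component_eq_univ_and_isPreconnected_limit z₀).1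

/-- connected at every stage implies connected -/
theorem preconnectedSpace [PreconnectedSpace X] (T : Tower p π r t) (h : ∀ i, PreconnectedSpace (Y i)) :
    PreconnectedSpace Z := by
  rcases isEmpty_or_nonempty Z with h0 | ⟨⟨z₀⟩⟩
  · exact ⟨Set.univ_eq_empty_iff.2 h0 ▸ isPreconnected_empty⟩
  refine ⟨?_⟩
  convert (T.image_component_eq_univ_and_isPreconnected_limit z₀).2
  refine (Set.iInter_eq_univ.2 fun i => ?_).symm
  haveI := h i
  rw [PreconnectedSpace.connectedComponent_eq_univ, Set.preimage_univ]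

/-- every component surjects onto a component -/
theorem image_connectedComponent (T : Tower p π r t) (z₀ : Z) :
    p '' connectedComponent z₀ = connectedComponent (p z₀) := by
  refine Subset.antisymm (T.cont_p.image_connectedComponent_subset z₀) fun x hx => ?_
  haveI : PreconnectedSpace ↥(connectedComponent (p z₀)) :=
    Subtype.preconnectedSpace isPreconnected_connectedComponent
  obtain ⟨z, hz, hzx⟩ := ((T.restrict (connectedComponent (p z₀))).image_component_eq_univ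
    ⟨z₀, show p z₀ ∈ connectedComponent (p z₀) from mem_connectedComponent⟩).ge (mem_univ (⟨x, hx⟩ : connectedComponent (p z₀)))
  exact ⟨z.1, continuous_subtype_val.image_connectedComponent_subset _ ⟨z, hz, rfl⟩, congrArg Subtype.val hzx⟩

end Tower

end Groth.Agent.ConnCompExt
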