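import Mathlib
import Groth.Agent.ConnCompExt.Topology
import Groth.Agent.GeomConnExt.Components

/-!
# Components of `X_Ω` for an algebraic closure `Ω` surject onto components of `X`
-/

set_option autoImplicit false
set_option backward.isDefEq.respectTransparency false
set_option backward.isDefEq.respectTransparency.types false
set_option linter.style.haveILetI false

universe u

open CategoryTheory CategoryTheory.Limits AlgebraicGeometry TensorProduct

namespace Groth.Agent.ConnCompExt

variable {k : Type u} [Field k] {X : Scheme.{u}} (f : X ⟶ Spec (CommRingCat.of k))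

/-- base change of `X` to an extension field -/
noncomputable abbrev bcS (E : Type u) [Field E] [Algebra k E] : Scheme.{u} :=
  pullback f (Spec.map (CommRingCat.ofHom (algebraMap k E)))

variable {E E' E'' : Type u} [Field E] [Algebra k E] [Field E'] [Algebra k E'] [Field E''] [Algebra k E'']

theorem specMap_algHom (e : E →ₐ[k] E') :
    Spec.map (CommRingCat.ofHom e.toRingHom) ≫ Spec.map (CommRingCat.ofHom (algebraMap k E)) =
      Spec.map (CommRingCat.ofHom (algebraMap k E')) := by
  rw [← Spec.map_comp, ← CommRingCat.ofHom_comp, AlgHom.toRingHom_eq_coe, AlgHom.comp_algebraMap]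

/-- functoriality of the base change in the field -/
noncomputable def bcMap (e : E →ₐ[k] E') : bcS f E' ⟶ bcS f E :=
  pullback.lift (pullback.fst _ _) (pullback.snd _ _ ≫ Spec.map (CommRingCat.ofHom e.toRingHom))
    (by rw [Category.assoc, specMap_algHom, pullback.condition])

@[reassoc (attr := simp)]
theorem bcMap_fst (e : E →ₐ[k] E') : bcMap f e ≫ pullback.fst _ _ = pullback.fst _ _ := pullback.lift_fst _ _ _

@[reassoc (attr := simp)]
theorem bcMap_snd (e : E →ₐ[k] E') :
    bcMap f e ≫ pullback.snd _ _ = pullback.snd _ _ ≫ Spec.map (CommRingCat.ofHom e.toRingHom) :=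
  pullback.lift_snd _ _ _

theorem bcMap_comp (e : E →ₐ[k] E') (e' : E' →ₐ[k] E'') :
    bcMap f e' ≫ bcMap f e = bcMap f (e'.comp e) := by
  apply pullback.hom_ext
  · simp
  · simp [← Spec.map_comp]
    rfl

theorem bcMap_fst_apply (e : E →ₐ[k] E') (z : bcS f E') :
    pullback.fst f (Spec.map (CommRingCat.ofHom (algebraMap k E))) (bcMap f e z) = pullback.fst f _ z := by
  rw [← Scheme.Hom.comp_apply, bcMap_fst]

theorem bcMap_bcMap_apply (e : E →ₐ[k] E') (e' : E' →ₐ[k] E'') (z : bcS f E'') :
    bcMap f e (bcMap f e' z) = bcMap f (e'.comp e) z := by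
  rw [← Scheme.Hom.comp_apply, bcMap_comp]

theorem isPullback_bcMap (e : E →ₐ[k] E') :
    IsPullback (bcMap f e) (pullback.snd f (Spec.map (CommRingCat.ofHom (algebraMap k E'))))
      (pullback.snd f (Spec.map (CommRingCat.ofHom (algebraMap k E))))
      (Spec.map (CommRingCat.ofHom e.toRingHom)) := by
  refine IsPullback.of_right ?_ (bcMap_snd f e) (IsPullback.of_hasPullback _ _)
  rw [bcMap_fst, specMap_algHom]
  exact IsPullback.of_hasPullback _ _

theorem surjective_bcMap (e : E →ₐ[k] E') : Surjective (bcMap f e) :=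
  MorphismProperty.of_isPullback (P := @Surjective) (isPullback_bcMap f e).flip
    ⟨fun _ => ⟨(⊥ : PrimeSpectrum E'), Subsingleton.elim (α := PrimeSpectrum E) _ _⟩⟩

theorem isOpenMap_bcMap (e : E →ₐ[k] E') : IsOpenMap (bcMap f e) := by
  haveI : UniversallyOpen (Spec.map (CommRingCat.ofHom e.toRingHom)) := inferInstance
  haveI : UniversallyOpen (bcMap f e) :=
    MorphismProperty.of_isPullback (P := @UniversallyOpen) (isPullback_bcMap f e).flip ‹_›
  exact Scheme.Hom.isOpenMap _

theorem isFinite_bcMap (e : E →ₐ[k] E') [Module.Finite k E'] : IsFinite (bcMap f e) := by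
  refine MorphismProperty.of_isPullback (P := @IsFinite) (isPullback_bcMap f e).flip ?_
  rw [IsFinite.SpecMap_iff]
  refine RingHom.Finite.of_comp_finite (f := algebraMap k E) ?_
  show (e.toRingHom.comp (algebraMap k E)).Finite
  rw [AlgHom.toRingHom_eq_coe, AlgHom.comp_algebraMap]
  exact RingHom.finite_algebraMap.2 inferInstance

section Chart

variable {A : Type u} [CommRing A] [Algebra k A] (c : Spec (CommRingCat.of A) ⟶ X)
  (hc : Spec.map (CommRingCat.ofHom (algebraMap k A)) = c ≫ f) (E)

/-- affine charts of a base change -/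
noncomputable def chart : Spec (CommRingCat.of (A ⊗[k] E)) ⟶ bcS f E :=
  (pullbackSpecIso k A E).inv ≫ pullback.map _ _ _ _ c (𝟙 _) (𝟙 _) (by simpa using hc) (by simp)

theorem range_chart : Set.range (chart f E c hc) =
    pullback.fst f (Spec.map (CommRingCat.ofHom (algebraMap k E))) ⁻¹' Set.range c := by
  rw [chart, Scheme.Hom.comp_base, TopCat.coe_comp, Set.range_comp,
    Set.range_eq_univ.2 (pullbackSpecIso k A E).inv.surjective, Set.image_univ]
  erw [Scheme.Pullback.range_map]
  simp

theorem isOpenImmersion_chart [IsOpenImmersion c] : IsOpenImmersion (chart f E c hc) := by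
  haveI : IsOpenImmersion (pullback.map (Spec.map (CommRingCat.ofHom (algebraMap k A)))
      (Spec.map (CommRingCat.ofHom (algebraMap k E))) f (Spec.map (CommRingCat.ofHom (algebraMap k E)))
      c (𝟙 _) (𝟙 _) (by simpa using hc) (by simp)) :=
    MorphismProperty.pullbackMap (P := @IsOpenImmersion) inferInstance inferInstance hc (Category.id_comp _).symm
  exact MorphismProperty.comp_mem _ _ _ inferInstance this

variable {E}

theorem chart_bcMap (e : E →ₐ[k] E') :
    chart f E' c hc ≫ bcMap f e =
      Spec.map (CommRingCat.ofHom (Algebra.TensorProduct.map (AlgHom.id k A) e).toRingHom) ≫ chart f E c hc := by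
  apply pullback.hom_ext
  · simp [chart]
    rw [← Spec.map_comp_assoc]
    congr 2
    ext a
    simp
  · simp [chart, ← Spec.map_comp]
    congr 1

end Chart

variable (k) (Ω : Type u) [Field Ω] [Algebra k Ω]

/-- finite subextensions -/
abbrev Ix : Type u := {L : IntermediateField k Ω // Module.Finite k L}

instance : IsDirected (Ix k Ω) (· ≤ ·) :=
  ⟨fun L L' => ⟨⟨L.1 ⊔ L'.1, by
    haveI := L.2; haveI := L'.2
    exact IntermediateField.finiteDimensional_sup L.1 L'.1⟩, le_sup_left (a := L.1), le_sup_right (a := L.1)⟩⟩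

instance : Nonempty (Ix k Ω) := ⟨⟨⊥, inferInstance⟩⟩

variable [Algebra.IsAlgebraic k Ω]

theorem exists_finite_level {A : Type u} [CommRing A] [Algebra k A] (s : A ⊗[k] Ω) :
    ∃ (L : Ix k Ω) (s' : A ⊗[k] L.1), Algebra.TensorProduct.map (AlgHom.id k A) L.1.val s' = s := by
  induction s with
  | zero => exact ⟨Classical.arbitrary _, 0, map_zero _⟩
  | tmul a ω =>
    exact ⟨⟨IntermediateField.adjoin k {ω}, IntermediateField.adjoin.finiteDimensional (Algebra.IsIntegral.isIntegral ω)⟩,
      a ⊗ₜ ⟨ω, IntermediateField.mem_adjoin_simple_self k ω⟩, by simp⟩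
  | add s₁ s₂ h₁ h₂ =>
    obtain ⟨L₁, t₁, rfl⟩ := h₁
    obtain ⟨L₂, t₂, rfl⟩ := h₂
    obtain ⟨L, hL₁, hL₂⟩ := exists_ge_ge L₁ L₂
    refine ⟨L, Algebra.TensorProduct.map (AlgHom.id k A) (IntermediateField.inclusion hL₁) t₁ +
      Algebra.TensorProduct.map (AlgHom.id k A) (IntermediateField.inclusion hL₂) t₂, ?_⟩
    rw [map_add, ← AlgHom.comp_apply, ← AlgHom.comp_apply, ← Algebra.TensorProduct.map_comp,
      ← Algebra.TensorProduct.map_comp]
    rfl

variable {k}

theorem basis (z : bcS f Ω) (O : Set (bcS f Ω)) (hO : IsOpen O) (hz : z ∈ O) :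
    ∃ (L : Ix k Ω) (V : Set (bcS f L.1)), IsOpen V ∧ bcMap f L.1.val z ∈ V ∧ bcMap f L.1.val ⁻¹' V ⊆ O := by
  obtain ⟨U, hU, hxU, -⟩ := exists_isAffineOpen_mem_and_subset (X := X)
    (x := pullback.fst f (Spec.map (CommRingCat.ofHom (algebraMap k Ω))) z) (U := ⊤) trivial
  obtain ⟨φ, hφ⟩ := Spec.map_surjective (hU.fromSpec ≫ f)
  letI : Algebra k Γ(X, U) := φ.hom.toAlgebra
  have hc : Spec.map (CommRingCat.ofHom (algebraMap k Γ(X, U))) = hU.fromSpec ≫ f := hφ
  let j := chart f Ω hU.fromSpec hc
  obtain ⟨q, rfl⟩ : z ∈ Set.range j := by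
    rw [range_chart, Set.mem_preimage, hU.range_fromSpec]
    exact hxU
  obtain ⟨_, ⟨s, rfl⟩, hqs, hsO⟩ := PrimeSpectrum.isTopologicalBasis_basic_opens.exists_subset_of_mem_open
    (show q ∈ j ⁻¹' O from hz) (hO.preimage j.continuous)
  obtain ⟨L, s', rfl⟩ := exists_finite_level k Ω s
  let jL := chart f L.1 hU.fromSpec hc
  haveI : IsOpenImmersion jL := isOpenImmersion_chart f _ _ hc
  have hcomm : ∀ q', bcMap f L.1.val (j q') =
      jL (Spec.map (CommRingCat.ofHom (Algebra.TensorProduct.map (AlgHom.id k Γ(X, U)) L.1.val).toRingHom) q') :=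
    fun q' => by rw [← Scheme.Hom.comp_apply, chart_bcMap, Scheme.Hom.comp_apply]
  refine ⟨L, jL '' (PrimeSpectrum.basicOpen s' : Set (PrimeSpectrum (Γ(X, U) ⊗[k] L.1))),
    jL.isOpenEmbedding.isOpenMap _ (PrimeSpectrum.basicOpen s').2, ⟨_, hqs, (hcomm q).symm⟩, ?_⟩
  intro a ha
  obtain ⟨b, hb, hba⟩ := ha
  obtain ⟨q', rfl⟩ : a ∈ Set.range j := by
    rw [range_chart, Set.mem_preimage, ← bcMap_fst_apply f L.1.val, ← hba]
    exact (range_chart f L.1 hU.fromSpec hc).le ⟨b, rfl⟩
  rw [hcomm] at hba
  obtain rfl := jL.isOpenEmbedding.injective hba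
  exact hsO hb

variable [Normal k Ω]

theorem trans (L : IntermediateField k Ω) (z z' : bcS f Ω) (h : bcMap f L.val z = bcMap f L.val z') :
    ∃ σ : Ω →ₐ[k] Ω, σ.comp L.val = L.val ∧ bcMap f σ z = z' := by
  obtain ⟨q, hq, hq'⟩ := Scheme.Pullback.exists_preimage_pullback (f := bcMap f L.val) (g := bcMap f L.val) z z' h
  let W := pullback (bcMap f L.val) (bcMap f L.val)
  let m : Spec (CommRingCat.of (AlgebraicClosure (W.residueField q))) ⟶ W :=
    Spec.map (CommRingCat.ofHom (algebraMap (W.residueField q) (AlgebraicClosure (W.residueField q)))) ≫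
      W.fromSpecResidueField q
  have hm : ∀ a, m a = q := fun a => by
    rw [Scheme.Hom.comp_apply]
    exact Scheme.fromSpecResidueField_apply q _
  let M := AlgebraicClosure (W.residueField q)
  let a := m ≫ pullback.fst _ _
  let b := m ≫ pullback.snd _ _
  have hab : a ≫ bcMap f L.val = b ≫ bcMap f L.val := by
    simp only [a, b, Category.assoc, pullback.condition]
  obtain ⟨ψ, hψ⟩ := Spec.map_surjective (a ≫ pullback.snd f (Spec.map (CommRingCat.ofHom (algebraMap k Ω))))
  obtain ⟨ψ', hψ'⟩ := Spec.map_surjective (b ≫ pullback.snd f (Spec.map (CommRingCat.ofHom (algebraMap k Ω))))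
  have hL : CommRingCat.ofHom L.val.toRingHom ≫ ψ = CommRingCat.ofHom L.val.toRingHom ≫ ψ' := by
    apply Spec.map_injective
    have e := congrArg (fun g => g ≫ pullback.snd f (Spec.map (CommRingCat.ofHom (algebraMap k L)))) hab
    simp only [Category.assoc, bcMap_snd] at e
    rw [Spec.map_comp, Spec.map_comp, hψ, hψ', Category.assoc, Category.assoc]
    exact e
  letI : Algebra Ω M := ψ.hom.toAlgebra
  letI : Algebra k M := (ψ.hom.comp (algebraMap k Ω)).toAlgebra
  haveI : IsScalarTower k Ω M := IsScalarTower.of_algebraMap_eq fun _ => rfl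
  let ψ'' : Ω →ₐ[k] M :=
    { ψ'.hom with
      commutes' := fun r => (congrArg (fun g : CommRingCat.of L ⟶ CommRingCat.of M => g (algebraMap k L r)) hL).symm }
  let σ : Ω →ₐ[k] Ω := AlgHom.restrictNormal ψ'' Ω
  have hσ : ∀ x, ψ (σ x) = ψ' x := fun x => AlgHom.restrictNormal_commutes ψ'' Ω x
  refine ⟨σ, AlgHom.ext fun x => ψ.hom.injective ((hσ x.1).trans
    (congrArg (fun g : CommRingCat.of L ⟶ CommRingCat.of M => g x) hL).symm), ?_⟩
  have hb : a ≫ bcMap f σ = b := by
    apply pullback.hom_ext
    · have e := congrArg (fun g => g ≫ pullback.fst f (Spec.map (CommRingCat.ofHom (algebraMap k L)))) hab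
      simp only [Category.assoc, bcMap_fst] at e
      rw [Category.assoc, bcMap_fst]
      exact e
    · rw [Category.assoc, bcMap_snd, ← Category.assoc, ← hψ, ← hψ', ← Spec.map_comp]
      congr 1
      ext x
      exact hσ x
  let pt : Spec (CommRingCat.of M) := (⊥ : PrimeSpectrum M)
  have h1 : a pt = z := by rw [Scheme.Hom.comp_apply, hm, hq]
  have h2 : b pt = z' := by rw [Scheme.Hom.comp_apply, hm, hq']
  rw [← h2, ← hb, Scheme.Hom.comp_apply, h1]

theorem tower : Tower (fun z => pullback.fst f (Spec.map (CommRingCat.ofHom (algebraMap k Ω))) z)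
    (fun (L : Ix k Ω) z => bcMap f L.1.val z)
    (fun (L : Ix k Ω) y => pullback.fst f (Spec.map (CommRingCat.ofHom (algebraMap k L.1))) y)
    (fun (_ _ : Ix k Ω) h y => bcMap f (IntermediateField.inclusion h) y) := by
  haveI : IsIntegralHom (Spec.map (CommRingCat.ofHom (algebraMap k Ω))) := by
    rw [IsIntegralHom.SpecMap_iff]
    exact fun x => Algebra.IsIntegral.isIntegral x
  haveI : IsIntegralHom (pullback.fst f (Spec.map (CommRingCat.ofHom (algebraMap k Ω)))) :=
    MorphismProperty.pullback_fst _ _ inferInstance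
  haveI hfin : ∀ L : Ix k Ω, IsFinite (pullback.fst f (Spec.map (CommRingCat.ofHom (algebraMap k L.1)))) := fun L => by
    refine MorphismProperty.pullback_fst _ _ ?_
    rw [IsFinite.SpecMap_iff]
    exact RingHom.finite_algebraMap.2 L.2
  haveI : ∀ (L L' : Ix k Ω) (h : L ≤ L'), IsFinite (bcMap f (IntermediateField.inclusion h)) := fun L L' h => by
    haveI := L'.2
    exact isFinite_bcMap f _
  exact
    { cont_p := Scheme.Hom.continuous _
      closed_p := Scheme.Hom.isClosedMap _
      compact_p := Scheme.Hom.isCompact_preimage_singleton _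
      cont_π := fun _ => Scheme.Hom.continuous _
      surj_π := fun L => (surjective_bcMap f L.1.val).surj
      cont_r := fun _ => Scheme.Hom.continuous _
      open_r := fun _ => GeomConn.isOpenMap_fst f
      closed_r := fun _ => Scheme.Hom.isClosedMap _
      fin_r := fun L x => Scheme.Hom.finite_preimage_singleton _ x
      disc_r := fun L c d hd h => by
        let r := pullback.fst f (Spec.map (CommRingCat.ofHom (algebraMap k L.1)))
        haveI := isDiscrete_iff_discreteTopology.1 (r.isDiscrete_preimage_singleton (r c))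
        obtain ⟨O, hO, hOd⟩ := isOpen_induced_iff.1 (isOpen_discrete ({⟨d, h⟩} : Set (r ⁻¹' {r c})))
        have hdO : d ∈ O := (Set.ext_iff.1 hOd ⟨d, h⟩).2 rfl
        have hcO : c ∈ O := by
          obtain ⟨_, h1, rfl⟩ := mem_closure_iff.1 hd O hO hdO
          exact h1
        exact (congrArg Subtype.val ((Set.ext_iff.1 hOd ⟨c, rfl⟩).1 hcO)).symm
      cont_t := fun _ _ _ => Scheme.Hom.continuous _
      open_t := fun _ _ _ => isOpenMap_bcMap f _
      closed_t := fun L L' h => Scheme.Hom.isClosedMap _
      r_π := fun L z => bcMap_fst_apply f _ z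
      t_π := fun L L' h z => by rw [bcMap_bcMap_apply]; rfl
      basis := fun z O hO hz => basis f Ω z O hO hz
      trans := fun L z z' h => by
        obtain ⟨σ, hσ, hσz⟩ := trans f Ω L.1 z z' h
        refine ⟨fun a => bcMap f σ a, Scheme.Hom.continuous _, fun a => bcMap_fst_apply f _ a,
          fun a => by rw [bcMap_bcMap_apply, hσ], hσz, fun J => ?_⟩
        haveI := J.2
        let g : J.1 →ₐ[k] (J.1.map σ : IntermediateField k Ω) :=
          (σ.comp J.1.val).codRestrict (J.1.map σ).toSubalgebra fun x => ⟨x.1, x.2, rfl⟩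
        refine ⟨⟨J.1.map σ, Module.Finite.equiv (IntermediateField.equivMap J.1 σ).toLinearEquiv⟩,
          fun y => bcMap f g y, Scheme.Hom.continuous _, fun a => ?_⟩
        show bcMap f J.1.val (bcMap f σ a) = bcMap f g (bcMap f (J.1.map σ).val a)
        rw [bcMap_bcMap_apply, bcMap_bcMap_apply]
        rfl }

/-- components of the base change to an algebraic closure surject onto components -/
theorem image_connectedComponent (z : bcS f Ω) :
    (fun z => pullback.fst f (Spec.map (CommRingCat.ofHom (algebraMap k Ω))) z) '' connectedComponent z =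
      connectedComponent (pullback.fst f (Spec.map (CommRingCat.ofHom (algebraMap k Ω))) z) :=
  (tower f Ω).image_connectedComponent z

omit [Field Ω] [Algebra k Ω] [Algebra.IsAlgebraic k Ω] [Normal k Ω] in
/-- components of the base change to any field surject onto components -/
theorem image_connectedComponent_field (K : Type u) [Field K] [Algebra k K] (x' : bcS f K) :
    (fun z => pullback.fst f (Spec.map (CommRingCat.ofHom (algebraMap k K))) z) '' connectedComponent x' =
      connectedComponent (pullback.fst f (Spec.map (CommRingCat.ofHom (algebraMap k K))) x') := by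
  let Ω := AlgebraicClosure k
  obtain ⟨L, _, _, iK, iΩ, _⟩ := GeomConnExt.exists_common_extension (k := k) K Ω
  refine Set.Subset.antisymm ((Scheme.Hom.continuous _).image_connectedComponent_subset x') fun x hx => ?_
  obtain ⟨x'', rfl⟩ := (surjective_bcMap f iK).surj x'
  rw [bcMap_fst_apply, ← bcMap_fst_apply f iΩ] at hx
  obtain ⟨e, he, rfl⟩ := (image_connectedComponent f Ω (bcMap f iΩ x'')).ge hx
  have hconn : _root_.IsConnected ((fun z => bcMap f iΩ z) ⁻¹' connectedComponent (bcMap f iΩ x'')) := by
    letI : Algebra Ω L := iΩ.toRingHom.toAlgebra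
    haveI : IsScalarTower k Ω L := IsScalarTower.of_algebraMap_eq fun r => (iΩ.commutes r).symm
    have hT : GeomConnExt.towerMap Ω L f = bcMap f iΩ := by
      apply pullback.hom_ext
      · exact (GeomConnExt.towerMap_fst Ω L f).trans (bcMap_fst f iΩ).symm
      · rw [bcMap_snd]
        show GeomConnExt.towerMap Ω L f ≫ FBase.bcStr f Ω = _
        rw [GeomConnExt.towerMap, Category.assoc, Iso.inv_comp_eq]
        simp [GeomConnExt.towerIso, FBase.bcStr, FBase.bcπ, FBase.bc, pullback.condition]
        rfl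
    refine GeomConnExt.isConnected_preimage_of_fibres (Scheme.Hom.continuous _) (isOpenMap_bcMap f iΩ)
      (surjective_bcMap f iΩ).surj (fun b => ?_) isConnected_connectedComponent
    rw [← hT]
    exact (GeomConnExt.isIrreducible_towerMap_fibre Ω L f b).isConnected.isPreconnected
  obtain ⟨w, rfl⟩ := (surjective_bcMap f iΩ).surj e
  have hw : w ∈ connectedComponent x'' := hconn.isPreconnected.subset_connectedComponent mem_connectedComponent he
  refine ⟨bcMap f iK w, (Scheme.Hom.continuous _).image_connectedComponent_subset x'' ⟨w, hw, rfl⟩, ?_⟩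
  show pullback.fst f _ (bcMap f iK w) = _
  rw [bcMap_fst_apply]
  exact (bcMap_fst_apply f iΩ w).symm

end Groth.Agent.ConnCompExt
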