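import Mathlib
import Groth.Agent.ConnCompExt.Scheme

/-!
# Connected and irreducible subsets of base changes to larger fields
-/

set_option autoImplicit false
set_option backward.isDefEq.respectTransparency false
set_option backward.isDefEq.respectTransparency.types false
set_option linter.style.haveILetI false

universe u

open CategoryTheory CategoryTheory.Limits AlgebraicGeometry TensorProduct

namespace Groth.Agent.ConnCompExt

variable {k : Type u} [Field k] {X : Scheme.{u}} (f : X ⟶ Spec (CommRingCat.of k))
  {E E' : Type u} [Field E] [Algebra k E] [Field E'] [Algebra k E']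

theorem image_connectedComponent_bcMap (e : E →ₐ[k] E') (z : bcS f E') :
    bcMap f e '' connectedComponent z ⊆ connectedComponent (bcMap f e z) :=
  (Scheme.Hom.continuous _).image_connectedComponent_subset z

/-- irreducible subsets stay irreducible above an algebraically closed field -/
theorem isIrreducible_preimage_of_isAlgClosed [IsAlgClosed E] (e : E →ₐ[k] E') {S : Set (bcS f E)}
    (hS : IsIrreducible S) : IsIrreducible (bcMap f e ⁻¹' S) := by
  letI : Algebra E E' := e.toRingHom.toAlgebra
  haveI : IsScalarTower k E E' := IsScalarTower.of_algebraMap_eq fun r => (e.commutes r).symm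
  have hT : GeomConnExt.towerMap E E' f = bcMap f e := by
    apply pullback.hom_ext
    · exact (GeomConnExt.towerMap_fst E E' f).trans (bcMap_fst f e).symm
    · rw [bcMap_snd]
      show GeomConnExt.towerMap E E' f ≫ FBase.bcStr f E = _
      rw [GeomConnExt.towerMap, Category.assoc, Iso.inv_comp_eq]
      simp [GeomConnExt.towerIso, FBase.bcStr, FBase.bcπ, FBase.bc, pullback.condition]
      rfl
  refine hS.preimage_of_isPreirreducible_fiber _ (isOpenMap_bcMap f e) (fun b => ?_) ?_
  · rw [← hT]
    exact (GeomConnExt.isIrreducible_towerMap_fibre E E' f b).2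
  · obtain ⟨s, hs⟩ := hS.1
    obtain ⟨w, hw⟩ := (surjective_bcMap f e).surj s
    exact ⟨s, hs, w, hw⟩

theorem isConnected_preimage_of_isAlgClosed [IsAlgClosed E] (e : E →ₐ[k] E') {S : Set (bcS f E)}
    (hS : _root_.IsConnected S) : _root_.IsConnected (bcMap f e ⁻¹' S) :=
  GeomConnExt.isConnected_preimage_of_fibres (Scheme.Hom.continuous _) (isOpenMap_bcMap f e)
    (surjective_bcMap f e).surj
    (fun b => (isIrreducible_preimage_of_isAlgClosed f e isIrreducible_singleton).isConnected.isPreconnected) hS

/-- purely inseparable extensions do not change the space -/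
theorem bijective_bcMap (e : E →ₐ[k] E') (h : e.toRingHom.IsPurelyInseparable) : Function.Bijective (bcMap f e) := by
  haveI hinj : UniversallyInjective (Spec.map (CommRingCat.ofHom e.toRingHom)) := by
    refine ((tfae_universallyInjective _).out 0 1).2 ?_
    intro K instK g₁ g₂ hg
    obtain ⟨ψ₁, rfl⟩ := Spec.map_surjective g₁
    obtain ⟨ψ₂, rfl⟩ := Spec.map_surjective g₂
    simp only [← Spec.map_comp] at hg
    have h' := congrArg CommRingCat.Hom.hom (Spec.map_injective hg)
    letI : Algebra E E' := e.toRingHom.toAlgebra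
    haveI : IsPurelyInseparable E E' := h
    exact congrArg Spec.map (CommRingCat.hom_ext (IsPurelyInseparable.injective_comp_algebraMap E E' K h'))
  haveI : UniversallyInjective (bcMap f e) :=
    MorphismProperty.of_isPullback (P := @UniversallyInjective) (isPullback_bcMap f e).flip hinj
  exact ⟨Scheme.Hom.injective _, (surjective_bcMap f e).surj⟩

theorem isHomeomorph_bcMap (e : E →ₐ[k] E') (h : e.toRingHom.IsPurelyInseparable) : IsHomeomorph (bcMap f e) :=
  ⟨Scheme.Hom.continuous _, isOpenMap_bcMap f e, bijective_bcMap f e h⟩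

theorem isPurelyInseparable_of_isSepClosed [IsSepClosed E] (e : E →ₐ[k] E') [Algebra.IsAlgebraic k E'] :
    e.toRingHom.IsPurelyInseparable := by
  letI : Algebra E E' := e.toRingHom.toAlgebra
  haveI : IsScalarTower k E E' := IsScalarTower.of_algebraMap_eq fun r => (e.commutes r).symm
  haveI : Algebra.IsAlgebraic E E' := Algebra.IsAlgebraic.tower_top (K := k) E
  exact (inferInstance : IsPurelyInseparable E E')

/-- over a separably closed field connected sets stay connected -/
theorem isConnected_preimage_of_isSepClosed [IsSepClosed E] [Algebra.IsAlgebraic k E] (e : E →ₐ[k] E')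
    {S : Set (bcS f E)} (hS : _root_.IsConnected S) : _root_.IsConnected (bcMap f e ⁻¹' S) := by
  let Ω := AlgebraicClosure k
  let e₀ : E →ₐ[k] Ω := IsAlgClosed.lift
  letI : Algebra E Ω := e₀.toRingHom.toAlgebra
  haveI : IsScalarTower k E Ω := IsScalarTower.of_algebraMap_eq fun r => (e₀.commutes r).symm
  haveI : Algebra.IsAlgebraic E Ω := Algebra.IsAlgebraic.tower_top (K := k) E
  letI : Algebra E E' := e.toRingHom.toAlgebra
  obtain ⟨L, _, _, iE', iΩ, _⟩ := GeomConnExt.exists_common_extension (k := E) E' Ω
  letI : Algebra k L := ((algebraMap E L).comp (algebraMap k E)).toAlgebra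
  let j' : E' →ₐ[k] L := { iE'.toRingHom with
    commutes' := fun r => by
      show iE' (algebraMap k E' r) = algebraMap E L (algebraMap k E r)
      rw [← e.commutes r]
      exact iE'.commutes _ }
  let jΩ : Ω →ₐ[k] L := { iΩ.toRingHom with
    commutes' := fun r => by
      show iΩ (algebraMap k Ω r) = algebraMap E L (algebraMap k E r)
      rw [← e₀.commutes r]
      exact iΩ.commutes _ }
  have hcomp : j'.comp e = jΩ.comp e₀ := AlgHom.ext fun a => (iE'.commutes a).trans (iΩ.commutes a).symm
  have h0 : _root_.IsConnected (bcMap f e₀ ⁻¹' S) := by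
    let h := (isHomeomorph_bcMap f e₀ (isPurelyInseparable_of_isSepClosed e₀)).homeomorph
    exact h.isConnected_preimage.2 hS
  have h1 := isConnected_preimage_of_isAlgClosed f jΩ h0
  have h2 := h1.image _ (Scheme.Hom.continuous (bcMap f j')).continuousOn
  suffices bcMap f e ⁻¹' S = bcMap f j' '' (bcMap f jΩ ⁻¹' (bcMap f e₀ ⁻¹' S)) by rw [this]; exact h2
  have hz : ∀ w, bcMap f e₀ (bcMap f jΩ w) = bcMap f e (bcMap f j' w) := fun w => by
    rw [bcMap_bcMap_apply, bcMap_bcMap_apply, hcomp]
  refine Set.Subset.antisymm (fun z hz' => ?_) ?_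
  · obtain ⟨w, rfl⟩ := (surjective_bcMap f j').surj z
    exact ⟨w, by rw [Set.mem_preimage, Set.mem_preimage, hz]; exact hz', rfl⟩
  · rintro _ ⟨w, hw, rfl⟩
    rw [Set.mem_preimage, Set.mem_preimage, hz] at hw
    exact hw

variable (k) in
/-- the normal algebraic extension is connected when all its finite levels are -/
theorem connectedSpace_of_levels (Ω : Type u) [Field Ω] [Algebra k Ω] [Algebra.IsAlgebraic k Ω] [Normal k Ω]
    [ConnectedSpace X] (h : ∀ L : Ix k Ω, PreconnectedSpace (bcS f L.1)) : ConnectedSpace (bcS f Ω) := by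
  haveI := (tower f Ω).preconnectedSpace h
  obtain ⟨x⟩ := (inferInstance : Nonempty X)
  obtain ⟨z, -⟩ := GeomConnExt.surjective_bcπ f Ω x
  exact ⟨⟨z⟩⟩

/-- the `Aut`-action is transitive on fibres -/
theorem exists_aut (Ω : Type u) [Field Ω] [Algebra k Ω] [Algebra.IsAlgebraic k Ω] [Normal k Ω]
    (z z' : bcS f Ω) (h : pullback.fst f (Spec.map (CommRingCat.ofHom (algebraMap k Ω))) z = pullback.fst f _ z') :
    ∃ σ : Ω ≃ₐ[k] Ω, bcMap f σ.toAlgHom z = z' := by
  have hbot : bcMap f (⊥ : IntermediateField k Ω).val z = bcMap f (⊥ : IntermediateField k Ω).val z' := by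
    have hinj : Function.Injective (pullback.fst f (Spec.map (CommRingCat.ofHom (algebraMap k (⊥ : IntermediateField k Ω))))) := by
      haveI : IsIso (Spec.map (CommRingCat.ofHom (algebraMap k (⊥ : IntermediateField k Ω)))) := by
        have : IsIso (CommRingCat.ofHom (algebraMap k (⊥ : IntermediateField k Ω))) := by
          rw [ConcreteCategory.isIso_iff_bijective]
          exact (IntermediateField.botEquiv k Ω).symm.bijective
        infer_instance
      exact (asIso (pullback.fst f _)).schemeIsoToHomeo.injective
    exact hinj (by rw [bcMap_fst_apply, bcMap_fst_apply]; exact h)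
  obtain ⟨σ, -, hσ⟩ := trans f Ω ⊥ z z' hbot
  exact ⟨AlgEquiv.ofBijective σ (Algebra.IsAlgebraic.algHom_bijective σ), hσ⟩

end Groth.Agent.ConnCompExt
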