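import Mathlib
import Groth.Agent.ConnCompExt.Fields
import Groth.Agent.GeomConnExt.Scheme

/-!
# Connected and irreducible components of base changes
-/

set_option autoImplicit false
set_option backward.isDefEq.respectTransparency false
set_option backward.isDefEq.respectTransparency.types false
set_option linter.style.haveILetI false

universe u

open CategoryTheory CategoryTheory.Limits AlgebraicGeometry TensorProduct

namespace Groth.Agent.ConnCompExt

variable {k : Type u} [Field k] {X : Scheme.{u}} (f : X ⟶ Spec (CommRingCat.of k))
  (K : Type u) [Field K] [Algebra k K]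

local notation "p" => pullback.fst f (Spec.map (CommRingCat.ofHom (algebraMap k K)))

theorem surjective_fst : Function.Surjective p := GeomConnExt.surjective_bcπ f K

instance isIso_fst_self : IsIso (pullback.fst f (Spec.map (CommRingCat.ofHom (algebraMap k k)))) := by
  haveI : IsIso (Spec.map (CommRingCat.ofHom (algebraMap k k))) :=
    inferInstanceAs (IsIso (Spec.map (𝟙 (CommRingCat.of k))))
  infer_instance

theorem isHomeomorph_fst_self :
    IsHomeomorph (pullback.fst f (Spec.map (CommRingCat.ofHom (algebraMap k k)))) :=
  (asIso (pullback.fst f (Spec.map (CommRingCat.ofHom (algebraMap k k))))).hom.homeomorph.isHomeomorph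

/-- over a separably closed field connected subsets stay connected -/
theorem isConnected_preimage_fst [IsSepClosed k] {S : Set X} (hS : _root_.IsConnected S) :
    _root_.IsConnected (p ⁻¹' S) := by
  have h0 := isConnected_preimage_of_isSepClosed f (Algebra.ofId k K)
    ((isHomeomorph_fst_self f).homeomorph.isConnected_preimage.2 hS)
  convert h0 using 1
  ext z
  show p z ∈ S ↔ pullback.fst f (Spec.map (CommRingCat.ofHom (algebraMap k k))) (bcMap f (Algebra.ofId k K) z) ∈ S
  rw [bcMap_fst_apply]

/-- every component above the component of `x` contains a point above `x` -/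
theorem exists_mem_component_over (z : bcS f K) {x : X} (hx : x ∈ connectedComponent (p z)) :
    ∃ w ∈ connectedComponent z, p w = x :=
  (image_connectedComponent_field f K z).ge hx

/-- connected geometric fibre over one point gives connected preimage of a component -/
theorem isConnected_preimage_component {y : X} {S : Set (bcS f K)} (h : _root_.IsPreconnected S)
    (hS : p ⁻¹' {y} ⊆ S) :
    _root_.IsConnected (p ⁻¹' connectedComponent y) := by
  obtain ⟨z₀, hz₀⟩ := surjective_fst f K y
  refine ⟨⟨z₀, show p z₀ ∈ connectedComponent y from hz₀ ▸ mem_connectedComponent⟩, ?_⟩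
  suffices p ⁻¹' connectedComponent y = connectedComponent z₀ by rw [this]; exact isPreconnected_connectedComponent
  refine Set.Subset.antisymm (fun z hz => ?_) fun z hz => ?_
  · have hy : y ∈ connectedComponent (p z) := by
      rw [← connectedComponent_eq (show p z ∈ connectedComponent y from hz)]
      exact mem_connectedComponent
    obtain ⟨w, hw, hwy⟩ := exists_mem_component_over f K z hy
    have hw0 : w ∈ connectedComponent z₀ := h.subset_connectedComponent (hS hz₀) (hS hwy)
    rw [connectedComponent_eq hw0, ← connectedComponent_eq hw]
    exact mem_connectedComponent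
  · show p z ∈ connectedComponent y
    rw [← hz₀]
    exact (Scheme.Hom.continuous p).image_connectedComponent_subset z₀ ⟨z, hz, rfl⟩

theorem connectedComponentsMap_bijective [IsSepClosed k] :
    Function.Bijective (Continuous.connectedComponentsMap (Scheme.Hom.continuous p)) := by
  refine ⟨fun a b hab => ?_, fun c => ?_⟩
  · obtain ⟨z, rfl⟩ := ConnectedComponents.surjective_coe a
    obtain ⟨w, rfl⟩ := ConnectedComponents.surjective_coe b
    have hab' : connectedComponent (p z) = connectedComponent (p w) := ConnectedComponents.coe_eq_coe.1 hab
    have hc := (isConnected_preimage_fst f K (isConnected_connectedComponent (x := p z))).isPreconnected.subset_connectedComponent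
      (show z ∈ p ⁻¹' connectedComponent (p z) from mem_connectedComponent)
      (show p w ∈ connectedComponent (p z) from hab' ▸ mem_connectedComponent)
    exact ConnectedComponents.coe_eq_coe.2 (connectedComponent_eq hc)
  · obtain ⟨x, rfl⟩ := ConnectedComponents.surjective_coe c
    obtain ⟨z, rfl⟩ := surjective_fst f K x
    exact ⟨z, rfl⟩

/-- the criterion by finite separable extensions -/
theorem geometricallyConnected_iff :
    GeometricallyConnected f ↔
      ∀ (k' : Type u) [Field k'] [Algebra k k'] [FiniteDimensional k k'] [Algebra.IsSeparable k k'],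
        ConnectedSpace ↥(bcS f k') := by
  refine ⟨fun h k' _ _ _ _ => h.geometrically_connectedSpace _ _ _ (IsPullback.of_hasPullback _ _), fun h => ?_⟩
  haveI : ConnectedSpace X := by
    haveI := h k
    exact (surjective_fst f k).connectedSpace (Scheme.Hom.continuous _)
  let Ω := SeparableClosure k
  haveI : Normal k Ω := IsGalois.to_normal
  haveI hΩ : ConnectedSpace (bcS f Ω) := connectedSpace_of_levels k f Ω fun L => by
    haveI := L.2
    haveI := h L.1
    infer_instance
  refine GeomConnExt.geometricallyConnected_of f fun K _ _ => ?_
  obtain ⟨L, _, _, iK, iΩ, _⟩ := GeomConnExt.exists_common_extension (k := k) K Ω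
  have h1 := isConnected_preimage_of_isSepClosed f iΩ (isConnected_univ (α := bcS f Ω))
  rw [Set.preimage_univ] at h1
  haveI : ConnectedSpace (bcS f L) := connectedSpace_iff_univ.2 h1
  exact (surjective_bcMap f iK).surj.connectedSpace (Scheme.Hom.continuous _)

section Two

variable {T : Scheme.{u}} (t : T ⟶ Spec (CommRingCat.of k)) (g : T ⟶ X) (hg : g ≫ f = t)

include hg in
theorem connectedSpace_of_source [ConnectedSpace X] [ConnectedSpace (bcS t K)] : ConnectedSpace (bcS f K) := by
  let gK : bcS t K ⟶ bcS f K := pullback.map _ _ _ _ g (𝟙 _) (𝟙 _) (by simp [hg]) (by simp)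
  let D := connectedComponent (gK (Classical.arbitrary _))
  have hD : Set.range gK ⊆ D := (isPreconnected_range gK.continuous).subset_connectedComponent ⟨_, rfl⟩
  have hrange : Set.range gK = p ⁻¹' Set.range g := by
    simp only [gK]
    erw [Scheme.Pullback.range_map]
    simp
  refine connectedSpace_iff_univ.2 ⟨⟨gK (Classical.arbitrary _), trivial⟩, ?_⟩
  convert (isPreconnected_connectedComponent (x := gK (Classical.arbitrary _)))
  refine (Set.eq_univ_of_forall fun z => ?_).symm
  obtain ⟨t₀⟩ : Nonempty T :=
    ⟨pullback.fst t (Spec.map (CommRingCat.ofHom (algebraMap k K))) (Classical.arbitrary (bcS t K))⟩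
  obtain ⟨w, hw, hwt⟩ := exists_mem_component_over f K z (x := g t₀)
    (by rw [PreconnectedSpace.connectedComponent_eq_univ]; trivial)
  have hwD : w ∈ D := hD (hrange.ge ⟨t₀, hwt.symm⟩)
  show z ∈ D
  rw [show D = connectedComponent w from connectedComponent_eq hwD, ← connectedComponent_eq hw]
  exact mem_connectedComponent

end Two

end Groth.Agent.ConnCompExt
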