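import Mathlib
import Groth.Agent.ConnCompExt.Components
import Groth.Agent.GeomConnExt.FibreParam
import Groth.Agent.FlatOverBC.NoethFibre
import Groth.Agent.S6333

/-!
# Irreducible components of base changes
-/

set_option autoImplicit false
set_option backward.isDefEq.respectTransparency false
set_option backward.isDefEq.respectTransparency.types false
set_option linter.style.haveILetI false

universe u

open CategoryTheory CategoryTheory.Limits AlgebraicGeometry TensorProduct

namespace Groth.Agent.ConnCompExt

/-- images of components under generalizing maps have maximal closure -/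
theorem closure_image_mem_irreducibleComponents {A B : Scheme.{u}} (g : A ⟶ B) (hg : GeneralizingMap g)
    {C : Set A} (hC : C ∈ irreducibleComponents A) : closure (g '' C) ∈ irreducibleComponents B := by
  have hCc : IsClosed C := isClosed_of_mem_irreducibleComponents C hC
  let η := hC.1.genericPoint
  have hη : closure {η} = C := by
    have := hC.1.isGenericPoint_genericPoint_closure
    rwa [hCc.closure_eq] at this
  have hC' : closure (g '' C) = closure {g η} := by
    refine Set.Subset.antisymm (closure_minimal ?_ isClosed_closure) (closure_mono ?_)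
    · rintro _ ⟨c, hc, rfl⟩
      exact ((specializes_iff_mem_closure.2 (hη.ge hc)).map g.continuous).mem_closure
    · rintro _ rfl
      exact ⟨η, hη.le (subset_closure rfl), rfl⟩
  rw [hC']
  refine ⟨isIrreducible_singleton.closure, fun Z hZ hle => ?_⟩
  have hξ := hZ.isGenericPoint_genericPoint_closure
  have h1 : hZ.genericPoint ⤳ g η := hξ.specializes (subset_closure (hle (subset_closure rfl)))
  obtain ⟨ξ', hξ', hg'⟩ := hg h1
  have h2 : C ⊆ closure {ξ'} := hη ▸ closure_minimal (Set.singleton_subset_iff.2 hξ'.mem_closure) isClosed_closure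
  have h3 : closure {ξ'} ⊆ C := hC.2 isIrreducible_singleton.closure h2
  have h4 : η ⤳ ξ' := specializes_iff_mem_closure.2 (hη.ge (h3 (subset_closure rfl)))
  intro z hz
  have h5 : hZ.genericPoint ⤳ z := hξ.specializes (subset_closure hz)
  rw [← hg'] at h5
  exact ((h4.map g.continuous).trans h5).mem_closure

variable {k : Type u} [Field k] {X : Scheme.{u}} (f : X ⟶ Spec (CommRingCat.of k))
  {E E' : Type u} [Field E] [Algebra k E] [Field E'] [Algebra k E']

theorem bcMap_id_apply (z : bcS f E) : bcMap f (AlgHom.id k E) z = z := by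
  rw [show bcMap f (AlgHom.id k E) = 𝟙 _ from pullback.hom_ext (by simp) (by simp)]
  rfl

theorem flat_fst (K : Type u) [Field K] [Algebra k K] :
    Flat (pullback.fst f (Spec.map (CommRingCat.ofHom (algebraMap k K)))) := by
  refine MorphismProperty.pullback_fst _ _ ?_
  rw [HasRingHomProperty.Spec_iff (P := @Flat)]
  exact RingHom.flat_algebraMap_iff.2 inferInstance

theorem flat_bcMap (e : E →ₐ[k] E') : Flat (bcMap f e) := by
  refine MorphismProperty.of_isPullback (P := @Flat) (isPullback_bcMap f e).flip ?_
  rw [HasRingHomProperty.Spec_iff (P := @Flat)]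
  letI : Algebra E E' := e.toRingHom.toAlgebra
  exact RingHom.flat_algebraMap_iff.2 (inferInstance : Module.Flat E E')

theorem image_mem_irreducibleComponents_of_isAlgebraic (K : Type u) [Field K] [Algebra k K] [Algebra.IsAlgebraic k K]
    {C : Set (bcS f K)} (hC : C ∈ irreducibleComponents (bcS f K)) :
    pullback.fst f (Spec.map (CommRingCat.ofHom (algebraMap k K))) '' C ∈ irreducibleComponents X := by
  haveI := flat_fst f K
  haveI : IsIntegralHom (Spec.map (CommRingCat.ofHom (algebraMap k K))) := by
    rw [IsIntegralHom.SpecMap_iff]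
    exact fun x => Algebra.IsIntegral.isIntegral x
  haveI : IsIntegralHom (pullback.fst f (Spec.map (CommRingCat.ofHom (algebraMap k K)))) :=
    MorphismProperty.pullback_fst _ _ inferInstance
  have h := closure_image_mem_irreducibleComponents _
    (Flat.generalizingMap (pullback.fst f (Spec.map (CommRingCat.ofHom (algebraMap k K))))) hC
  rwa [(Scheme.Hom.isClosedMap _ _ (isClosed_of_mem_irreducibleComponents C hC)).closure_eq] at h

/-- components below an algebraically closed field stay components -/
theorem preimage_mem_irreducibleComponents [IsAlgClosed E] (e : E →ₐ[k] E') {D : Set (bcS f E)}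
    (hD : D ∈ irreducibleComponents (bcS f E)) : bcMap f e ⁻¹' D ∈ irreducibleComponents (bcS f E') := by
  refine ⟨isIrreducible_preimage_of_isAlgClosed f e hD.1, fun S hS hle z hz => ?_⟩
  refine hD.2 (hS.image _ (Scheme.Hom.continuous (bcMap f e)).continuousOn) (fun d hd => ?_) ⟨z, hz, rfl⟩
  obtain ⟨w, rfl⟩ := (surjective_bcMap f e).surj d
  exact ⟨w, hle hd, rfl⟩

/-- components above an algebraically closed field come from components -/
theorem exists_eq_preimage [IsAlgClosed E] (e : E →ₐ[k] E') {C : Set (bcS f E')}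
    (hC : C ∈ irreducibleComponents (bcS f E')) :
    ∃ D ∈ irreducibleComponents (bcS f E), C = bcMap f e ⁻¹' D ∧ bcMap f e '' C = D := by
  obtain ⟨D, hD, hle⟩ := exists_mem_irreducibleComponents_subset_of_isIrreducible _
    (hC.1.image _ (Scheme.Hom.continuous (bcMap f e)).continuousOn)
  have h : C = bcMap f e ⁻¹' D :=
    Set.Subset.antisymm (Set.image_subset_iff.1 hle) (hC.2 (preimage_mem_irreducibleComponents f e hD).1 (Set.image_subset_iff.1 hle))
  exact ⟨D, hD, h, by rw [h, Set.image_preimage_eq _ (surjective_bcMap f e).surj]⟩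

/-- images of components are components -/
theorem image_mem_irreducibleComponents (K : Type u) [Field K] [Algebra k K]
    {C : Set (bcS f K)} (hC : C ∈ irreducibleComponents (bcS f K)) :
    pullback.fst f (Spec.map (CommRingCat.ofHom (algebraMap k K))) '' C ∈ irreducibleComponents X := by
  let Ω := AlgebraicClosure k
  obtain ⟨L, _, _, iK, iΩ, _⟩ := GeomConnExt.exists_common_extension (k := k) K Ω
  let η := hC.1.genericPoint
  have hη : closure {η} = C := by
    have := hC.1.isGenericPoint_genericPoint_closure
    rwa [(isClosed_of_mem_irreducibleComponents C hC).closure_eq] at this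
  obtain ⟨η', hη'⟩ := (surjective_bcMap f iK).surj η
  obtain ⟨C'', hC'', hmem⟩ := exists_mem_irreducibleComponents_subset_of_isIrreducible _ (isIrreducible_singleton (x := η'))
  have h1 : C ⊆ closure (bcMap f iK '' C'') := by
    rw [← hη]
    exact closure_mono (Set.singleton_subset_iff.2 ⟨η', hmem rfl, hη'⟩)
  have h2 : bcMap f iK '' C'' ⊆ C :=
    subset_closure.trans (hC.2 (hC''.1.image _ (Scheme.Hom.continuous (bcMap f iK)).continuousOn).closure h1)
  obtain ⟨D, hD, -, hDimg⟩ := exists_eq_preimage f iΩ hC''
  have h3 := image_mem_irreducibleComponents_of_isAlgebraic f Ω hD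
  have hirr := hC.1.image _ (Scheme.Hom.continuous (pullback.fst f (Spec.map (CommRingCat.ofHom (algebraMap k K))))).continuousOn
  have h4 : pullback.fst f (Spec.map (CommRingCat.ofHom (algebraMap k Ω))) '' D ⊆
      pullback.fst f (Spec.map (CommRingCat.ofHom (algebraMap k K))) '' C := by
    rintro _ ⟨d, hd, rfl⟩
    obtain ⟨w, hw, rfl⟩ := hDimg.ge hd
    exact ⟨bcMap f iK w, h2 ⟨w, hw, rfl⟩, by rw [bcMap_fst_apply, bcMap_fst_apply]⟩
  rw [Set.Subset.antisymm (h3.2 hirr h4) h4]
  exact h3

theorem exists_component_image_eq (K : Type u) [Field K] [Algebra k K] {Z : Set X}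
    (hZ : Z ∈ irreducibleComponents X) :
    ∃ T ∈ irreducibleComponents (bcS f K), pullback.fst f (Spec.map (CommRingCat.ofHom (algebraMap k K))) '' T = Z := by
  have hξ : closure {hZ.1.genericPoint} = Z := by
    have := hZ.1.isGenericPoint_genericPoint_closure
    rwa [(isClosed_of_mem_irreducibleComponents Z hZ).closure_eq] at this
  obtain ⟨z, hz⟩ := surjective_fst f K hZ.1.genericPoint
  obtain ⟨T, hT, hmem⟩ := exists_mem_irreducibleComponents_subset_of_isIrreducible _ (isIrreducible_singleton (x := z))
  have hT' := image_mem_irreducibleComponents f K hT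
  refine ⟨T, hT, ?_⟩
  have h1 : Z ⊆ pullback.fst f (Spec.map (CommRingCat.ofHom (algebraMap k K))) '' T := by
    rw [← hξ]
    exact closure_minimal (Set.singleton_subset_iff.2 ⟨z, hmem rfl, hz⟩) (isClosed_of_mem_irreducibleComponents _ hT')
  exact Set.Subset.antisymm (hZ.2 hT'.1 h1) h1

section Normal

variable (Ω : Type u) [Field Ω] [Algebra k Ω] [Algebra.IsAlgebraic k Ω] [Normal k Ω]

local notation "q" => pullback.fst f (Spec.map (CommRingCat.ofHom (algebraMap k Ω)))

theorem isHomeomorph_aut (σ : Ω ≃ₐ[k] Ω) : IsHomeomorph (bcMap f σ.toAlgHom) := by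
  refine ⟨Scheme.Hom.continuous _, isOpenMap_bcMap f _,
    Function.bijective_iff_has_inverse.2 ⟨bcMap f σ.symm.toAlgHom, fun z => ?_, fun z => ?_⟩⟩
  · rw [bcMap_bcMap_apply, show σ.toAlgHom.comp σ.symm.toAlgHom = AlgHom.id k Ω from
      AlgHom.ext fun a => σ.apply_symm_apply a, bcMap_id_apply]
  · rw [bcMap_bcMap_apply, show σ.symm.toAlgHom.comp σ.toAlgHom = AlgHom.id k Ω from
      AlgHom.ext fun a => σ.symm_apply_apply a, bcMap_id_apply]

theorem image_aut_mem_irreducibleComponents (σ : Ω ≃ₐ[k] Ω) {C : Set (bcS f Ω)}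
    (hC : C ∈ irreducibleComponents (bcS f Ω)) : bcMap f σ.toAlgHom '' C ∈ irreducibleComponents (bcS f Ω) := by
  haveI := flat_bcMap f σ.toAlgHom
  have h := closure_image_mem_irreducibleComponents _ (Flat.generalizingMap (bcMap f σ.toAlgHom)) hC
  rwa [((isHomeomorph_aut f Ω σ).isClosedMap _ (isClosed_of_mem_irreducibleComponents C hC)).closure_eq] at h

theorem image_aut_connectedComponent (σ : Ω ≃ₐ[k] Ω) (z : bcS f Ω) :
    bcMap f σ.toAlgHom '' connectedComponent z = connectedComponent (bcMap f σ.toAlgHom z) := by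
  let h := (isHomeomorph_aut f Ω σ).homeomorph
  refine Set.Subset.antisymm ((Scheme.Hom.continuous _).image_connectedComponent_subset z) fun w hw => ?_
  exact ⟨h.symm w, by
    have := h.symm.continuous.image_connectedComponent_subset (h z) ⟨w, hw, rfl⟩
    rwa [Homeomorph.symm_apply_apply] at this, h.apply_symm_apply w⟩

theorem preimage_eq_sUnion {T : Set X} (hT : T ∈ irreducibleComponents X) :
    q ⁻¹' T = ⋃₀ {T' | T' ∈ irreducibleComponents (bcS f Ω) ∧ q '' T' ⊆ T} := by
  refine Set.Subset.antisymm (fun z hz => ?_) ?_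
  · obtain ⟨T₀, hT₀, hT₀T⟩ := exists_component_image_eq f Ω hT
    obtain ⟨w, hw, hwz⟩ := hT₀T.ge hz
    obtain ⟨σ, hσ⟩ := exists_aut f Ω w z hwz
    refine ⟨_, ⟨image_aut_mem_irreducibleComponents f Ω σ hT₀, ?_⟩, w, hw, hσ⟩
    rintro _ ⟨_, ⟨a, ha, rfl⟩, rfl⟩
    rw [bcMap_fst_apply]
    exact hT₀T.le ⟨a, ha, rfl⟩
  · rintro z ⟨T', ⟨-, hT'⟩, hz⟩
    exact hT' ⟨z, hz, rfl⟩

theorem exists_aut_image_eq {T : Set X} (hT : T ∈ irreducibleComponents X) {T' T'' : Set (bcS f Ω)}
    (h' : T' ∈ irreducibleComponents (bcS f Ω)) (h'' : T'' ∈ irreducibleComponents (bcS f Ω))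
    (hT' : q '' T' ⊆ T) (hT'' : q '' T'' ⊆ T) : ∃ σ : Ω ≃ₐ[k] Ω, bcMap f σ.toAlgHom '' T' = T'' := by
  have e' : q '' T' = T :=
    Set.Subset.antisymm hT' ((image_mem_irreducibleComponents f Ω h').2 hT.1 hT')
  let η := h''.1.genericPoint
  have hη : closure {η} = T'' := by
    have := h''.1.isGenericPoint_genericPoint_closure
    rwa [(isClosed_of_mem_irreducibleComponents _ h'').closure_eq] at this
  obtain ⟨w, hw, hwη⟩ := e'.ge (hT'' ⟨η, hη.le (subset_closure rfl), rfl⟩)
  obtain ⟨σ, hσ⟩ := exists_aut f Ω w η hwη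
  have h1 := image_aut_mem_irreducibleComponents f Ω σ h'
  have h2 : T'' ⊆ bcMap f σ.toAlgHom '' T' := by
    rw [← hη]
    exact closure_minimal (Set.singleton_subset_iff.2 ⟨w, hw, hσ⟩) (isClosed_of_mem_irreducibleComponents _ h1)
  exact ⟨σ, Set.Subset.antisymm (h''.2 h1.1 h2) h2⟩

end Normal

theorem finite_components_over [LocallyOfFiniteType f] {T : Set X} (hT : T ∈ irreducibleComponents X) :
    {T' | T' ∈ irreducibleComponents (bcS f (SeparableClosure k)) ∧
      pullback.fst f (Spec.map (CommRingCat.ofHom (algebraMap k (SeparableClosure k)))) '' T' ⊆ T}.Finite := by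
  let x := hT.1.genericPoint
  have hx : closure {x} = T := by
    have := hT.1.isGenericPoint_genericPoint_closure
    rwa [(isClosed_of_mem_irreducibleComponents T hT).closure_eq] at this
  obtain ⟨φ, hφ⟩ := Spec.map_surjective (X.fromSpecResidueField x ≫ f)
  have hess : φ.hom.EssFiniteType := by
    obtain ⟨ψ, hψ⟩ := Spec.map_surjective ((Spec (CommRingCat.of k)).fromSpecResidueField (f x))
    have hψs : ψ.hom.FiniteType := by
      have : IsClosedImmersion (Spec.map ψ) := by
        rw [hψ]
        exact IsClosedImmersion.of_isPreimmersion _ (Set.Subsingleton.isClosed (Set.subsingleton_of_subsingleton (α := PrimeSpectrum k)))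
      exact (HasRingHomProperty.Spec_iff (P := @LocallyOfFiniteType)).1 inferInstance
    have e : φ = ψ ≫ f.residueFieldMap x := by
      apply Spec.map_injective
      rw [Spec.map_comp, hψ, hφ, Scheme.Hom.SpecMap_residueFieldMap_fromSpecResidueField]
    rw [e, CommRingCat.hom_comp]
    exact hψs.essFiniteType.comp (FlatOverBC.essFiniteType_residueFieldMap f x)
  letI : Algebra k (X.residueField x) := φ.hom.toAlgebra
  haveI : Algebra.EssFiniteType k (X.residueField x) := hess
  haveI : FiniteDimensional k (algebraicClosure k (X.residueField x)) :=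
    Groth.Agent.S6333.result (IntermediateField.fg_top_iff.2 inferInstance)
  have hle : separableClosure k (X.residueField x) ≤ algebraicClosure k (X.residueField x) :=
    fun a ha => mem_algebraicClosure_iff.2 ((mem_separableClosure_iff.1 ha).isIntegral.isAlgebraic)
  haveI : FiniteDimensional k (separableClosure k (X.residueField x)) :=
    FiniteDimensional.of_injective (IntermediateField.inclusion hle).toLinearMap
      (IntermediateField.inclusion_injective hle)
  have hfin := (GeomConnExt.natCard_fibre f x hφ (SeparableClosure k) fun a => IsSepClosed.splits_codomain _ (Algebra.IsSeparable.isSeparable k a)).1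
  refine (hfin.image fun z => closure {z}).subset ?_
  rintro T' ⟨hT', hle⟩
  let η := hT'.1.genericPoint
  have hη : closure {η} = T' := by
    have := hT'.1.isGenericPoint_genericPoint_closure
    rwa [(isClosed_of_mem_irreducibleComponents _ hT').closure_eq] at this
  refine ⟨η, ?_, hη⟩
  let g := pullback.fst f (Spec.map (CommRingCat.ofHom (algebraMap k (SeparableClosure k))))
  have e : g '' T' = T :=
    Set.Subset.antisymm hle ((image_mem_irreducibleComponents f _ hT').2 hT.1 hle)
  obtain ⟨w, hw, hwx⟩ := e.ge (hx.le (subset_closure rfl))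
  have h1 : g η ⤳ x := hwx ▸ (specializes_iff_mem_closure.2 (hη.ge hw)).map g.continuous
  have h2 : x ⤳ g η := specializes_iff_mem_closure.2 (hx.ge (hle ⟨η, hη.le (subset_closure rfl), rfl⟩))
  exact (h1.antisymm h2).eq

end Groth.Agent.ConnCompExt
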