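import Mathlib
import Groth.Agent.ConnCompExt.Irreducible
import Groth.Prelude.Def_Curv2

/-!
# The Galois action in terms of `bcMap`
-/

set_option autoImplicit false
set_option backward.isDefEq.respectTransparency false
set_option backward.isDefEq.respectTransparency.types false

universe u

open CategoryTheory CategoryTheory.Limits AlgebraicGeometry

namespace Groth.Agent.ConnCompExt

theorem galAct_eq (k : Type u) [Field k] (X : Scheme.{u}) [X.Over (Spec (CommRingCat.of k))] (K : Type u) [Field K]
    [Algebra k K] (σ : K ≃ₐ[k] K) : Curv2.galAct k X K σ = bcMap (X ↘ Spec (CommRingCat.of k)) σ.toAlgHom := by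
  apply pullback.hom_ext
  · simp [Curv2.galAct]
  · simp [Curv2.galAct]

end Groth.Agent.ConnCompExt
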