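import Mathlib
import Groth.Agent.ConnCompExt.Irreducible

/-!
# Irreducibility over separably closed fields and Galois descent of subsets
-/

set_option autoImplicit false
set_option backward.isDefEq.respectTransparency false
set_option backward.isDefEq.respectTransparency.types false
set_option linter.style.haveILetI false

universe u

open CategoryTheory CategoryTheory.Limits AlgebraicGeometry TensorProduct

namespace Groth.Agent.ConnCompExt

variable {k : Type u} [Field k] {X : Scheme.{u}} (f : X ⟶ Spec (CommRingCat.of k))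
  {E E' : Type u} [Field E] [Algebra k E] [Field E'] [Algebra k E']

/-- over a separably closed field irreducible sets stay irreducible -/
theorem isIrreducible_preimage_of_isSepClosed [IsSepClosed E] [Algebra.IsAlgebraic k E] (e : E →ₐ[k] E')
    {S : Set (bcS f E)} (hS : IsIrreducible S) : IsIrreducible (bcMap f e ⁻¹' S) := by
  let Ω := AlgebraicClosure k
  let e₀ : E →ₐ[k] Ω := IsAlgClosed.lift
  letI : Algebra E Ω := e₀.toRingHom.toAlgebra
  haveI : IsScalarTower k E Ω := IsScalarTower.of_algebraMap_eq fun r => (e₀.commutes r).symm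
  letI : Algebra E E' := e.toRingHom.toAlgebra
  obtain ⟨L, _, _, iE', iΩ, _⟩ := GeomConnExt.exists_common_extension (k := E) E' Ω
  letI : Algebra k L := ((algebraMap E L).comp (algebraMap k E)).toAlgebra
  let j' : E' →ₐ[k] L := { iE'.toRingHom with
    commutes' := fun r => by
      show iE' (algebraMap k E' r) = algebraMap E L (algebraMap k E r)
      rw [← e.commutes r]
      exact iE'.commutes _ }
  let jΩ : Ω →ₐ[k] L := { iΩ.toRingHom with
    commutes' := fun r => by
      show iΩ (algebraMap k Ω r) = algebraMap E L (algebraMap k E r)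
      rw [← e₀.commutes r]
      exact iΩ.commutes _ }
  have hcomp : j'.comp e = jΩ.comp e₀ := AlgHom.ext fun a => (iE'.commutes a).trans (iΩ.commutes a).symm
  have h0 : IsIrreducible (bcMap f e₀ ⁻¹' S) := by
    let h := (isHomeomorph_bcMap f e₀ (isPurelyInseparable_of_isSepClosed e₀)).homeomorph
    have := hS.image h.symm h.symm.continuous.continuousOn
    rwa [h.image_symm] at this
  have h2 := (isIrreducible_preimage_of_isAlgClosed f jΩ h0).image _ (Scheme.Hom.continuous (bcMap f j')).continuousOn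
  suffices bcMap f e ⁻¹' S = bcMap f j' '' (bcMap f jΩ ⁻¹' (bcMap f e₀ ⁻¹' S)) by rw [this]; exact h2
  have hz : ∀ w, bcMap f e₀ (bcMap f jΩ w) = bcMap f e (bcMap f j' w) := fun w => by
    rw [bcMap_bcMap_apply, bcMap_bcMap_apply, hcomp]
  refine Set.Subset.antisymm (fun z hz' => ?_) ?_
  · obtain ⟨w, rfl⟩ := (surjective_bcMap f j').surj z
    exact ⟨w, by rw [Set.mem_preimage, Set.mem_preimage, hz]; exact hz', rfl⟩
  · rintro _ ⟨w, hw, rfl⟩
    rw [Set.mem_preimage, Set.mem_preimage, hz] at hw
    exact hw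

theorem isIrreducible_preimage_fst [IsSepClosed k] (K : Type u) [Field K] [Algebra k K] {S : Set X}
    (hS : IsIrreducible S) : IsIrreducible (pullback.fst f (Spec.map (CommRingCat.ofHom (algebraMap k K))) ⁻¹' S) := by
  let h := (isHomeomorph_fst_self f).homeomorph
  have h' := hS.image h.symm h.symm.continuous.continuousOn
  rw [h.image_symm] at h'
  have h0 := isIrreducible_preimage_of_isSepClosed f (Algebra.ofId k K) h'
  convert h0 using 1
  ext z
  show _ ∈ S ↔ pullback.fst f (Spec.map (CommRingCat.ofHom (algebraMap k k))) (bcMap f (Algebra.ofId k K) z) ∈ S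
  rw [bcMap_fst_apply]

/-- preimages in a field are images of preimages in a common extension -/
theorem preimage_fst_eq_image {K Ω L : Type u} [Field K] [Algebra k K] [Field Ω] [Algebra k Ω] [Field L] [Algebra k L]
    (iK : K →ₐ[k] L) (iΩ : Ω →ₐ[k] L) (S : Set X) :
    pullback.fst f (Spec.map (CommRingCat.ofHom (algebraMap k K))) ⁻¹' S =
      bcMap f iK '' (bcMap f iΩ ⁻¹' (pullback.fst f (Spec.map (CommRingCat.ofHom (algebraMap k Ω))) ⁻¹' S)) := by
  refine Set.Subset.antisymm (fun z hz => ?_) ?_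
  · obtain ⟨w, rfl⟩ := (surjective_bcMap f iK).surj z
    refine ⟨w, ?_, rfl⟩
    rw [Set.mem_preimage, Set.mem_preimage, bcMap_fst_apply, ← bcMap_fst_apply f iK]
    exact hz
  · rintro _ ⟨w, hw, rfl⟩
    rw [Set.mem_preimage, Set.mem_preimage, bcMap_fst_apply, ← bcMap_fst_apply f iK] at hw
    exact hw

theorem geometricallyIrreducible_of (h : ∀ (K : Type u) [Field K] [Algebra k K], IrreducibleSpace ↥(bcS f K)) :
    GeometricallyIrreducible f := by
  rw [GeometricallyIrreducible.eq_geometrically]
  intro K _ y Z fst snd hsq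
  obtain ⟨φ, rfl⟩ := Spec.map_surjective y
  letI := φ.hom.toAlgebra
  have : IrreducibleSpace ↥(pullback f (Spec.map φ)) := h K
  exact hsq.isoPullback.inv.surjective.irreducibleSpace hsq.isoPullback.inv.continuous

theorem geometricallyIrreducible_of_sepClosure [IrreducibleSpace (bcS f (SeparableClosure k))] :
    GeometricallyIrreducible f := by
  refine geometricallyIrreducible_of f fun K _ _ => ?_
  obtain ⟨L, _, _, iK, iΩ, _⟩ := GeomConnExt.exists_common_extension (k := k) K (SeparableClosure k)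
  have h1 := isIrreducible_preimage_of_isSepClosed f iΩ
    (IrreducibleSpace.isIrreducible_univ (bcS f (SeparableClosure k)))
  rw [Set.preimage_univ] at h1
  haveI : IrreducibleSpace (bcS f L) := (irreducibleSpace_def _).2 h1
  exact (surjective_bcMap f iK).surj.irreducibleSpace (Scheme.Hom.continuous _)

theorem geometricallyConnected_of_sepClosure [ConnectedSpace (bcS f (SeparableClosure k))] :
    GeometricallyConnected f := by
  refine GeomConnExt.geometricallyConnected_of f fun K _ _ => ?_
  obtain ⟨L, _, _, iK, iΩ, _⟩ := GeomConnExt.exists_common_extension (k := k) K (SeparableClosure k)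
  have h1 := isConnected_preimage_of_isSepClosed f iΩ (isConnected_univ (α := bcS f (SeparableClosure k)))
  rw [Set.preimage_univ] at h1
  haveI : ConnectedSpace (bcS f L) := connectedSpace_iff_univ.2 h1
  exact (surjective_bcMap f iK).surj.connectedSpace (Scheme.Hom.continuous _)

/-- irreducible at all finite levels -/
theorem irreducibleSpace_of_levels (Ω : Type u) [Field Ω] [Algebra k Ω] [Algebra.IsAlgebraic k Ω] [Normal k Ω]
    (h : ∀ L : Ix k Ω, IrreducibleSpace (bcS f L.1)) : IrreducibleSpace (bcS f Ω) := by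
  obtain ⟨L₀⟩ : Nonempty (Ix k Ω) := inferInstance
  haveI := h L₀
  obtain ⟨z₀, -⟩ := (surjective_bcMap f L₀.1.val).surj (Classical.arbitrary _)
  refine (irreducibleSpace_def _).2 ⟨⟨z₀, trivial⟩, ?_⟩
  rintro U V hU hV ⟨u, -, hu⟩ ⟨v, -, hv⟩
  obtain ⟨i, U', hU', hu', hUU⟩ := basis f Ω u U hU hu
  obtain ⟨j, V', hV', hv', hVV⟩ := basis f Ω v V hV hv
  obtain ⟨m, him, hjm⟩ := exists_ge_ge i j
  haveI := h m
  have e₁ : ∀ z, bcMap f (IntermediateField.inclusion him) (bcMap f m.1.val z) = bcMap f i.1.val z :=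
    fun z => (tower f Ω).t_π i m him z
  have e₂ : ∀ z, bcMap f (IntermediateField.inclusion hjm) (bcMap f m.1.val z) = bcMap f j.1.val z :=
    fun z => (tower f Ω).t_π j m hjm z
  obtain ⟨c, -, hcU, hcV⟩ := (IrreducibleSpace.isIrreducible_univ (bcS f m.1)).2
    (bcMap f (IntermediateField.inclusion him) ⁻¹' U') (bcMap f (IntermediateField.inclusion hjm) ⁻¹' V')
    (hU'.preimage (Scheme.Hom.continuous _)) (hV'.preimage (Scheme.Hom.continuous _))
    ⟨bcMap f m.1.val u, trivial, show _ ∈ U' from (e₁ u).symm ▸ hu'⟩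
    ⟨bcMap f m.1.val v, trivial, show _ ∈ V' from (e₂ v).symm ▸ hv'⟩
  obtain ⟨z, rfl⟩ := (surjective_bcMap f m.1.val).surj c
  exact ⟨z, trivial, hUU (show _ ∈ U' from e₁ z ▸ hcU), hVV (show _ ∈ V' from e₂ z ▸ hcV)⟩

theorem geometricallyIrreducible_of_finite_separable
    (h : ∀ (k' : Type u) [Field k'] [Algebra k k'] [FiniteDimensional k k'] [Algebra.IsSeparable k k'],
      IrreducibleSpace ↥(bcS f k')) : GeometricallyIrreducible f := by
  haveI : Normal k (SeparableClosure k) := IsGalois.to_normal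
  haveI : IrreducibleSpace (bcS f (SeparableClosure k)) := irreducibleSpace_of_levels f _ fun L => by
    haveI := L.2
    exact h L.1
  exact geometricallyIrreducible_of_sepClosure f

theorem geometricallyIrreducible_of_baseChange (k' : Type u) [Field k'] [Algebra k k']
    [GeometricallyIrreducible (pullback.snd f (Spec.map (CommRingCat.ofHom (algebraMap k k'))))] :
    GeometricallyIrreducible f := by
  refine geometricallyIrreducible_of f fun K _ _ => ?_
  obtain ⟨L, _, _, iK, ik', _⟩ := GeomConnExt.exists_common_extension (k := k) K k'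
  haveI : IrreducibleSpace (bcS f L) := GeometricallyIrreducible.geometrically_irreducibleSpace
    (f := pullback.snd f (Spec.map (CommRingCat.ofHom (algebraMap k k')))) _ _ _ (isPullback_bcMap f ik')
  exact (surjective_bcMap f iK).surj.irreducibleSpace (Scheme.Hom.continuous _)

theorem eq_preimage_image [IsSepClosed k] (K : Type u) [Field K] [Algebra k K] {T : Set (bcS f K)}
    (hT : T ∈ irreducibleComponents (bcS f K)) :
    T = pullback.fst f (Spec.map (CommRingCat.ofHom (algebraMap k K))) ⁻¹'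
      (pullback.fst f (Spec.map (CommRingCat.ofHom (algebraMap k K))) '' T) :=
  Set.Subset.antisymm (Set.subset_preimage_image _ _)
    (hT.2 (isIrreducible_preimage_fst f K (image_mem_irreducibleComponents f K hT).1) (Set.subset_preimage_image _ _))

theorem preimage_eq_sUnion_field (K : Type u) [Field K] [Algebra k K] {T : Set X} (hT : T ∈ irreducibleComponents X) :
    pullback.fst f (Spec.map (CommRingCat.ofHom (algebraMap k K))) ⁻¹' T =
      ⋃₀ {Z | Z ∈ irreducibleComponents (bcS f K) ∧
        Z ⊆ pullback.fst f (Spec.map (CommRingCat.ofHom (algebraMap k K))) ⁻¹' T} := by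
  refine Set.Subset.antisymm (fun z hz => ?_) (Set.sUnion_subset fun Z hZ => hZ.2)
  let Ω := AlgebraicClosure k
  obtain ⟨L, _, _, iK, iΩ, _⟩ := GeomConnExt.exists_common_extension (k := k) K Ω
  rw [preimage_fst_eq_image f iK iΩ, preimage_eq_sUnion f Ω hT] at hz
  obtain ⟨w, ⟨T₀, ⟨hT₀, hT₀T⟩, hw⟩, rfl⟩ := hz
  obtain ⟨C, hC, hle⟩ := exists_mem_irreducibleComponents_subset_of_isIrreducible _
    ((isIrreducible_preimage_of_isAlgClosed f iΩ hT₀.1).image _ (Scheme.Hom.continuous (bcMap f iK)).continuousOn)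
  have hT₀' := image_mem_irreducibleComponents f Ω hT₀
  have e : pullback.fst f (Spec.map (CommRingCat.ofHom (algebraMap k Ω))) '' T₀ = T :=
    Set.Subset.antisymm hT₀T (hT₀'.2 hT.1 hT₀T)
  refine ⟨C, ⟨hC, Set.image_subset_iff.1 (hT.2 (image_mem_irreducibleComponents f K hC).1 fun x hx => ?_)⟩,
    hle ⟨w, hw, rfl⟩⟩
  obtain ⟨a, ha, rfl⟩ := e.ge hx
  obtain ⟨b, rfl⟩ := (surjective_bcMap f iΩ).surj a
  exact ⟨bcMap f iK b, hle ⟨b, ha, rfl⟩, by rw [bcMap_fst_apply, bcMap_fst_apply]⟩

section Normal

variable (Ω : Type u) [Field Ω] [Algebra k Ω] [Algebra.IsAlgebraic k Ω] [Normal k Ω]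

local notation "q" => pullback.fst f (Spec.map (CommRingCat.ofHom (algebraMap k Ω)))

theorem isClosedMap_fst : IsClosedMap q := (tower f Ω).closed_p

theorem preimage_image_of_invariant {S : Set (bcS f Ω)} (hS : ∀ σ : Ω ≃ₐ[k] Ω, bcMap f σ.toAlgHom '' S = S) :
    q ⁻¹' (q '' S) = S := by
  refine Set.Subset.antisymm (fun z hz => ?_) (Set.subset_preimage_image _ _)
  obtain ⟨w, hw, hwz⟩ := hz
  obtain ⟨σ, hσ⟩ := exists_aut f Ω w z hwz
  exact (hS σ).le ⟨w, hw, hσ⟩

theorem fst_image_aut (σ : Ω ≃ₐ[k] Ω) (S : Set (bcS f Ω)) : q '' (bcMap f σ.toAlgHom '' S) = q '' S := by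
  rw [Set.image_image]
  exact Set.image_congr fun z _ => bcMap_fst_apply f σ.toAlgHom z

theorem invariant_of_preimage {Z : Set (bcS f Ω)} (hZ : Z ∈ irreducibleComponents (bcS f Ω)) {T : Set X}
    (hT : q ⁻¹' T = Z) (σ : Ω ≃ₐ[k] Ω) : bcMap f σ.toAlgHom '' Z = Z := by
  have h1 : bcMap f σ.toAlgHom '' Z ⊆ Z := by
    rintro _ ⟨a, ha, rfl⟩
    rw [← hT] at ha ⊢
    rw [Set.mem_preimage, bcMap_fst_apply]
    exact ha
  exact Set.Subset.antisymm h1 ((image_aut_mem_irreducibleComponents f Ω σ hZ).2 hZ.1 h1)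

end Normal

end Groth.Agent.ConnCompExt
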