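import Mathlib
import Groth.Agent.ConnCompExt.Galois
import Groth.Agent.GeomConnExt.FibreParam
import Groth.Prelude.Def_Curv2

/-!
# Geometric irreducibility through the generic fibre
-/

set_option autoImplicit false
set_option backward.isDefEq.respectTransparency false
set_option backward.isDefEq.respectTransparency.types false
set_option linter.style.haveILetI false

universe u

open CategoryTheory CategoryTheory.Limits AlgebraicGeometry TensorProduct

namespace Groth.Agent.ConnCompExt

variable {k : Type u} [Field k]

theorem specMap_resMap (X : Scheme.{u}) [X.Over (Spec (CommRingCat.of k))] (x : X) :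
    Spec.map (CommRingCat.ofHom (Curv2.resMap k X x)) =
      X.fromSpecResidueField x ≫ (X ↘ Spec (CommRingCat.of k)) := by
  have h : (X ↘ Spec (CommRingCat.of k)) =
      X.toSpecΓ ≫ Spec.map ((Scheme.ΓSpecIso (CommRingCat.of k)).inv ≫ (X ↘ Spec (CommRingCat.of k)).appTop) := by
    rw [Spec.map_comp, ← Scheme.toSpecΓ_naturality_assoc, ← SpecMap_ΓSpecIso_hom, ← Spec.map_comp, Iso.inv_hom_id,
      Spec.map_id, Category.comp_id]
  conv_rhs => rw [Scheme.fromSpecResidueField, Category.assoc, h, Scheme.fromSpecStalk_toSpecΓ_assoc,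
    ← Spec.map_comp, ← Spec.map_comp]
  rfl

theorem range_eq_univ {X : Scheme.{u}} (f : X ⟶ Spec (CommRingCat.of k)) [Nonempty X] : Set.range f = Set.univ := by
  refine Set.eq_univ_of_forall fun s => ⟨Classical.arbitrary X, ?_⟩
  exact Subsingleton.elim (α := PrimeSpectrum k) _ _

section Fibre

variable {X : Scheme.{u}} (f : X ⟶ Spec (CommRingCat.of k)) (x : X) [Algebra k (X.residueField x)]
  (hφ : Spec.map (CommRingCat.ofHom (algebraMap k (X.residueField x))) = X.fromSpecResidueField x ≫ f)

include hφ in
theorem subsingleton_fibre (hκ : separableClosure k (X.residueField x) = ⊥) (E : Type u) [Field E] [Algebra k E]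
    [Algebra.IsAlgebraic k E] :
    (pullback.fst f (Spec.map (CommRingCat.ofHom (algebraMap k E))) ⁻¹' {x}).Subsingleton := by
  haveI := GeomConnExt.subsingleton_of_algebraic k (X.residueField x) hκ E
  exact Set.subsingleton_coe _ |>.1 (GeomConnExt.fibreEquiv f x hφ E).symm.subsingleton

include hφ in
theorem geometricallyIrreducible_of_primary (hx : closure {x} = Set.univ)
    (hκ : separableClosure k (X.residueField x) = ⊥) : GeometricallyIrreducible f := by
  let π := pullback.fst f (Spec.map (CommRingCat.ofHom (algebraMap k (SeparableClosure k))))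
  obtain ⟨z, hz⟩ : x ∈ Set.range π := by
    rw [Scheme.Pullback.range_fst]
    exact GeomConn.surjective_specMap_field _
  have hfib : π ⁻¹' {x} = {z} :=
    (subsingleton_fibre f x hφ hκ (SeparableClosure k)).eq_singleton_of_mem hz
  have hd : closure {z} = (Set.univ : Set (bcS f (SeparableClosure k))) := by
    rw [← hfib, ← (GeomConn.isOpenMap_fst f).preimage_closure_eq_closure_preimage π.continuous, hx,
      Set.preimage_univ]
  haveI : IrreducibleSpace (bcS f (SeparableClosure k)) :=
    (irreducibleSpace_def _).2 (by rw [Set.top_eq_univ, ← hd]; exact isIrreducible_singleton.closure)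
  exact geometricallyIrreducible_of_sepClosure f

end Fibre

theorem preirreducibleSpace_of_dense_meet {α : Type*} [TopologicalSpace α] (S : Set α)
    (hS : IsPreirreducible S) (hd : Dense S) : IsPreirreducible (Set.univ : Set α) := by
  rw [← hd.closure_eq]
  exact hS.closure

theorem finrank_eq_one_of_subsingleton (L : Type u) [Field L] [Algebra k L] [FiniteDimensional k L]
    [Algebra.IsSeparable k L] [Subsingleton (PrimeSpectrum (L ⊗[k] L))] : Module.finrank k L = 1 := by
  haveI : Algebra.FormallyUnramified k L := Algebra.FormallyUnramified.of_isSeparable k L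
  haveI : Algebra.FormallyUnramified k (L ⊗[k] L) := Algebra.FormallyUnramified.comp k L _
  haveI : IsReduced (L ⊗[k] L) := Algebra.FormallyUnramified.isReduced_of_field k (L ⊗[k] L)
  let mu : L ⊗[k] L →ₐ[k] L := Algebra.TensorProduct.lmul' k
  have hmu : Function.Bijective mu := by
    refine ⟨(injective_iff_map_eq_zero mu).2 fun z hz => ?_, fun l => ⟨l ⊗ₜ 1, by simp [mu]⟩⟩
    have : IsNilpotent z := nilpotent_iff_mem_prime.2 fun J hJ => by
      rw [show J = RingHom.ker mu.toRingHom from congrArg PrimeSpectrum.asIdeal
        (Subsingleton.elim (⟨J, hJ⟩ : PrimeSpectrum (L ⊗[k] L)) ⟨RingHom.ker mu.toRingHom, RingHom.ker_isPrime _⟩)]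
      exact hz
    exact this.eq_zero
  have hr := (LinearEquiv.ofBijective mu.toLinearMap hmu).finrank_eq
  rw [Module.finrank_tensorProduct] at hr
  exact Nat.eq_of_mul_eq_mul_left Module.finrank_pos (hr.trans (mul_one _).symm)

/-- if `F ⊗ F` has irreducible spectrum, `k` is separably closed in `F` -/
theorem separableClosure_eq_bot_of_irreducible_tensor (F : Type u) [Field F] [Algebra k F]
    (h : IsPreirreducible (Set.univ : Set (PrimeSpectrum (F ⊗[k] F)))) : separableClosure k F = ⊥ := by
  refine eq_bot_iff.2 fun a ha => ?_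
  have hsep := mem_separableClosure_iff.1 ha
  let L := IntermediateField.adjoin k ({a} : Set F)
  haveI : FiniteDimensional k L := IntermediateField.adjoin.finiteDimensional hsep.isIntegral
  haveI : Algebra.IsSeparable k L := (IntermediateField.isSeparable_adjoin_simple_iff_isSeparable k F).2 hsep
  let g := Algebra.TensorProduct.map L.val L.val
  have hg : Function.Injective g.toRingHom := by
    have := TensorProduct.map_injective_of_flat_flat (R := k) (f := L.val.toLinearMap) (g := L.val.toLinearMap)
      L.val.injective L.val.injective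
    exact this
  have hd : Dense (PrimeSpectrum.comap g.toRingHom '' Set.univ) := by
    rw [Set.image_univ]
    exact (PrimeSpectrum.denseRange_comap_iff_ker_le_nilRadical _).2
      (by rw [(RingHom.injective_iff_ker_eq_bot _).1 hg]; exact bot_le)
  have hirr := preirreducibleSpace_of_dense_meet _ (h.image _ (PrimeSpectrum.continuous_comap g.toRingHom).continuousOn) hd
  haveI : IsArtinianRing (↥L ⊗[k] ↥L) := IsArtinianRing.of_finite k (↥L ⊗[k] ↥L)
  haveI : Subsingleton (PrimeSpectrum (L ⊗[k] L)) := by
    refine ⟨fun p q => ?_⟩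
    by_contra hpq
    obtain ⟨r, -, hr1, hr2⟩ := hirr {p} {q} (isOpen_discrete _) (isOpen_discrete _) ⟨p, trivial, rfl⟩ ⟨q, trivial, rfl⟩
    exact hpq (hr1.symm.trans hr2)
  have h1 := finrank_eq_one_of_subsingleton (k := k) L
  exact IntermediateField.adjoin_simple_eq_bot_iff.1 (IntermediateField.finrank_eq_one_iff.1 h1)

section Self

variable {X : Scheme.{u}} (f : X ⟶ Spec (CommRingCat.of k))

theorem irreducibleSpace_of_self [IrreducibleSpace ↥(pullback f f)] : IrreducibleSpace X := by
  haveI : Nonempty X := ⟨pullback.fst f f (Classical.arbitrary ↥(pullback f f))⟩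
  have hs : Function.Surjective (pullback.fst f f) := by
    rw [← Set.range_eq_univ, Scheme.Pullback.range_fst, range_eq_univ f, Set.preimage_univ]
  exact hs.irreducibleSpace (pullback.fst f f).continuous

theorem separableClosure_eq_bot_of_self [IrreducibleSpace ↥(pullback f f)] (η : X) (hη : IsGenericPoint η Set.univ)
    [Algebra k (X.residueField η)]
    (hφ : Spec.map (CommRingCat.ofHom (algebraMap k (X.residueField η))) = X.fromSpecResidueField η ≫ f) :
    separableClosure k (X.residueField η) = ⊥ := by
  haveI : Nonempty X := ⟨η⟩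
  let ι : pullback (Spec.map (CommRingCat.ofHom (algebraMap k (X.residueField η))))
      (Spec.map (CommRingCat.ofHom (algebraMap k (X.residueField η)))) ⟶ pullback f f :=
    pullback.map _ _ _ _ (X.fromSpecResidueField η) (X.fromSpecResidueField η) (𝟙 _) (by simpa using hφ) (by simpa using hφ)
  haveI : IsPreimmersion ι :=
    MorphismProperty.pullbackMap (P := @IsPreimmersion) inferInstance inferInstance hφ hφ
  let ξ := genericPoint ↥(pullback f f)
  have hgen : ∀ q : pullback f f ⟶ X, Function.Surjective q → q ξ = η := fun q hq => by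
    refine IsGenericPoint.eq ?_ hη
    rw [isGenericPoint_def]
    refine Set.eq_univ_of_forall fun y => ?_
    obtain ⟨z, rfl⟩ := hq y
    exact specializes_iff_mem_closure.1 ((genericPoint_specializes z).map q.continuous)
  have h1 : pullback.fst f f ξ = η := hgen _ (by
    rw [← Set.range_eq_univ, Scheme.Pullback.range_fst, range_eq_univ f, Set.preimage_univ])
  have h2 : pullback.snd f f ξ = η := hgen _ (by
    rw [← Set.range_eq_univ, Scheme.Pullback.range_snd, range_eq_univ f, Set.preimage_univ])
  obtain ⟨w, hw⟩ : ξ ∈ Set.range ι := by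
    rw [Scheme.Pullback.range_map]
    erw [Scheme.range_fromSpecResidueField]
    exact ⟨h1, h2⟩
  have hall : closure {w} = Set.univ := Set.eq_univ_of_forall fun z => by
    rw [← specializes_iff_mem_closure, ← ι.isEmbedding.isInducing.specializes_iff, hw]
    exact genericPoint_specializes _
  have hirr : IsPreirreducible (Set.univ : Set ↥(pullback (Spec.map (CommRingCat.ofHom (algebraMap k (X.residueField η))))
      (Spec.map (CommRingCat.ofHom (algebraMap k (X.residueField η)))))) := by
    rw [← hall]; exact isIrreducible_singleton.closure.2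
  have := hirr.image _ (pullbackSpecIso k (X.residueField η) (X.residueField η)).hom.continuous.continuousOn
  rw [Set.image_univ, Set.range_eq_univ.2 (pullbackSpecIso k (X.residueField η) (X.residueField η)).hom.surjective] at this
  exact separableClosure_eq_bot_of_irreducible_tensor _ this

end Self

section Over

variable (X : Scheme.{u}) [X.Over (Spec (CommRingCat.of k))]

attribute [local instance] Curv2.resAlgebra

theorem geometricallyIrreducible_iff_generic [IrreducibleSpace X] :
    GeometricallyIrreducible (X ↘ Spec (CommRingCat.of k)) ↔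
      separableClosure k (X.residueField (genericPoint X)) = ⊥ := by
  constructor
  · intro h
    haveI := h
    haveI : UniversallyOpen (X ↘ Spec (CommRingCat.of k)) := inferInstance
    haveI : IrreducibleSpace ↥(pullback (X ↘ Spec (CommRingCat.of k)) (X ↘ Spec (CommRingCat.of k))) :=
      inferInstance
    exact separableClosure_eq_bot_of_self _ _ (genericPoint_spec X) (specMap_resMap X _)
  · exact geometricallyIrreducible_of_primary _ _ (specMap_resMap X _) (genericPoint_spec X).def

theorem geometricallyIrreducible_iff_self :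
    GeometricallyIrreducible (X ↘ Spec (CommRingCat.of k)) ↔
      IrreducibleSpace ↥(pullback (X ↘ Spec (CommRingCat.of k)) (X ↘ Spec (CommRingCat.of k))) := by
  constructor
  · intro h
    haveI := h
    haveI : Nonempty X := by
      haveI : Nonempty ↥(Spec (CommRingCat.of k)) := inferInstanceAs (Nonempty (PrimeSpectrum k))
      exact ⟨((X ↘ Spec (CommRingCat.of k)).surjective (Classical.arbitrary _)).choose⟩
    haveI : Subsingleton ↥(Spec (CommRingCat.of k)) := inferInstanceAs (Subsingleton (PrimeSpectrum k))
    haveI := GeometricallyIrreducible.irreducibleSpace_of_subsingleton (X ↘ Spec (CommRingCat.of k))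
    infer_instance
  · intro h
    haveI := h
    haveI := irreducibleSpace_of_self (X ↘ Spec (CommRingCat.of k))
    refine (geometricallyIrreducible_iff_generic X).2 ?_
    exact separableClosure_eq_bot_of_self _ _ (genericPoint_spec X) (specMap_resMap X _)

theorem separableClosure_eq_bot_of_surjective {x : X} (hx : Function.Surjective (Curv2.resMap k X x)) :
    separableClosure k (X.residueField x) = ⊥ := by
  refine eq_bot_iff.2 fun a _ => IntermediateField.mem_bot.2 ?_
  obtain ⟨c, rfl⟩ := hx a
  exact ⟨c, rfl⟩

theorem geometricallyIrreducible_of_dense [IrreducibleSpace X]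
    (hd : Dense {x : ↥X | Function.Surjective (Curv2.resMap k X x)}) :
    GeometricallyIrreducible (X ↘ Spec (CommRingCat.of k)) := by
  let f := X ↘ Spec (CommRingCat.of k)
  let π := pullback.fst f (Spec.map (CommRingCat.ofHom (algebraMap k (SeparableClosure k))))
  haveI : IrreducibleSpace (bcS f (SeparableClosure k)) := by
    refine (irreducibleSpace_def _).2 ⟨?_, ?_⟩
    · obtain ⟨z, -⟩ := surjective_fst f (SeparableClosure k) (Classical.arbitrary X)
      exact ⟨z, trivial⟩
    · rintro U V hU hV ⟨u, -, hu⟩ ⟨v, -, hv⟩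
      obtain ⟨y, -, hy⟩ := (IrreducibleSpace.isIrreducible_univ X).2 _ _ (GeomConn.isOpenMap_fst f U hU)
        (GeomConn.isOpenMap_fst f V hV) ⟨_, trivial, u, hu, rfl⟩ ⟨_, trivial, v, hv, rfl⟩
      obtain ⟨x, hxW, hx⟩ := hd.inter_open_nonempty _
        ((GeomConn.isOpenMap_fst f U hU).inter (GeomConn.isOpenMap_fst f V hV)) ⟨y, hy⟩
      obtain ⟨⟨z, hzU, hz⟩, z', hzV, hz'⟩ := hxW
      have := subsingleton_fibre f x (specMap_resMap X x) (separableClosure_eq_bot_of_surjective X hx)
        (SeparableClosure k) hz hz'
      exact ⟨z, trivial, hzU, this ▸ hzV⟩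
  exact geometricallyIrreducible_of_sepClosure f

end Over

theorem geometricallyIrreducible_of_cover {X : Scheme.{u}} (f : X ⟶ Spec (CommRingCat.of k))
    {ι : Type u} (U : ι → X.Opens) [Nonempty ι] (hcov : (⨆ i, U i) = ⊤)
    (hmeet : ∀ i j, ((U i : Set X) ∩ (U j : Set X)).Nonempty)
    (hU : ∀ i, GeometricallyIrreducible ((U i).ι ≫ f)) : GeometricallyIrreducible f := by
  refine geometricallyIrreducible_of f fun K _ _ => ?_
  let s := Spec.map (CommRingCat.ofHom (algebraMap k K))
  let π := pullback.fst f s
  have hirr : ∀ i, IsIrreducible (π ⁻¹' (U i : Set X)) := fun i => by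
    haveI := hU i
    let j : pullback ((U i).ι ≫ f) s ⟶ pullback f s :=
      pullback.map _ _ _ _ (U i).ι (𝟙 _) (𝟙 _) (by simp) (by simp)
    haveI : IrreducibleSpace ↥(pullback ((U i).ι ≫ f) s) :=
      GeometricallyIrreducible.geometrically_irreducibleSpace (f := (U i).ι ≫ f) _ _ _ (IsPullback.of_hasPullback _ s)
    have hr : Set.range j = π ⁻¹' (U i : Set X) := by
      rw [Scheme.Pullback.range_map]
      simp [π]
    rw [← hr, ← Set.image_univ]
    exact (IrreducibleSpace.isIrreducible_univ _).image _ j.continuous.continuousOn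
  have hsurj : Function.Surjective π := surjective_fst f K
  have hcov' : ∀ z, ∃ i, z ∈ π ⁻¹' (U i : Set X) := fun z => by
    have : π z ∈ (⨆ i, U i) := hcov ▸ trivial
    exact TopologicalSpace.Opens.mem_iSup.1 this
  refine (irreducibleSpace_def _).2 ⟨?_, ?_⟩
  · obtain ⟨z, -⟩ := (hirr (Classical.arbitrary ι)).1
    exact ⟨z, trivial⟩
  · rintro A B hA hB ⟨a, -, ha⟩ ⟨b, -, hb⟩
    obtain ⟨i, hi⟩ := hcov' a
    obtain ⟨j, hj⟩ := hcov' b
    obtain ⟨y, hy⟩ := hmeet i j
    obtain ⟨c, hc⟩ := hsurj y
    obtain ⟨d, -, hdA, hdj⟩ := (hirr i).2 A (π ⁻¹' (U j : Set X)) hA ((U j).2.preimage π.continuous) ⟨a, hi, ha⟩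
      ⟨c, by rw [Set.mem_preimage, hc]; exact hy.1, by rw [Set.mem_preimage, hc]; exact hy.2⟩
    obtain ⟨e, -, he⟩ := (hirr j).2 A B hA hB ⟨d, hdj, hdA⟩ ⟨b, hj, hb⟩
    exact ⟨e, trivial, he⟩

end Groth.Agent.ConnCompExt
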