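import Mathlib
import Groth.Agent.ConnCompExt.Galois

/-!
# A finite separable extension splitting all irreducible components
-/

set_option autoImplicit false
set_option backward.isDefEq.respectTransparency false
set_option backward.isDefEq.respectTransparency.types false
set_option linter.style.haveILetI false

universe u

open CategoryTheory CategoryTheory.Limits AlgebraicGeometry TensorProduct

namespace Groth.Agent.ConnCompExt

variable {k : Type u} [Field k] {X : Scheme.{u}} (f : X ⟶ Spec (CommRingCat.of k))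

theorem finite_components_sepClosure [LocallyOfFiniteType f] (hfin : (irreducibleComponents X).Finite) :
    (irreducibleComponents (bcS f (SeparableClosure k))).Finite := by
  refine ((hfin.biUnion fun T hT => finite_components_over f hT)).subset fun T' hT' => ?_
  exact Set.mem_biUnion (image_mem_irreducibleComponents f _ hT') ⟨hT', subset_rfl⟩

/-- finitely many points are separated at a finite level -/
theorem exists_level_injOn (Ω : Type u) [Field Ω] [Algebra k Ω] [Algebra.IsAlgebraic k Ω] [Normal k Ω]
    {G : Set (bcS f Ω)} (hG : G.Finite) : ∃ L : Ix k Ω, Set.InjOn (bcMap f L.1.val) G := by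
  classical
  have key : ∀ a b : bcS f Ω, ∃ i : Ix k Ω, a ≠ b → bcMap f i.1.val a ≠ bcMap f i.1.val b := by
    intro a b
    by_cases hab : a = b
    · exact ⟨Classical.arbitrary _, fun h => absurd hab h⟩
    obtain ⟨O, hO, hOx⟩ := exists_isOpen_xor_mem hab
    rcases hOx with ⟨ha, hb⟩ | ⟨hb, ha⟩
    · obtain ⟨i, V, -, hV, hVO⟩ := basis f Ω a O hO ha
      exact ⟨i, fun _ e => hb (hVO (show _ ∈ V from e ▸ hV))⟩
    · obtain ⟨i, V, -, hV, hVO⟩ := basis f Ω b O hO hb
      exact ⟨i, fun _ e => ha (hVO (show _ ∈ V from e.symm ▸ hV))⟩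
  choose I hI using key
  obtain ⟨L, hL⟩ := Finset.exists_le ((hG.toFinset ×ˢ hG.toFinset).image fun q => I q.1 q.2)
  refine ⟨L, fun a ha b hb e => ?_⟩
  by_contra hne
  have hle : I a b ≤ L := hL _ (Finset.mem_image.2 ⟨(a, b), by simp [ha, hb], rfl⟩)
  apply hI a b hne
  rw [← (tower f Ω).t_π (I a b) L hle a, ← (tower f Ω).t_π (I a b) L hle b, e]

theorem exists_splitting [LocallyOfFiniteType f] (hfin : (irreducibleComponents X).Finite) :
    ∃ L : Ix k (SeparableClosure k), ∀ T ∈ irreducibleComponents (bcS f L.1),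
      IsIrreducible (bcMap f L.1.val ⁻¹' T) := by
  classical
  haveI : Normal k (SeparableClosure k) := IsGalois.to_normal
  let Ω := SeparableClosure k
  let G : Set (bcS f Ω) := {η | closure {η} ∈ irreducibleComponents (bcS f Ω)}
  have hG : G.Finite := by
    refine Set.Finite.of_finite_image (f := fun η => closure {η})
      ((finite_components_sepClosure f hfin).subset ?_) fun a _ b _ e => ?_
    · rintro _ ⟨η, hη, rfl⟩
      exact hη
    · exact (IsGenericPoint.eq (show IsGenericPoint a (closure {a}) from rfl) (show IsGenericPoint b (closure {a}) from e.symm))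
  obtain ⟨L, hL⟩ := exists_level_injOn f Ω hG
  refine ⟨L, fun T hT => ?_⟩
  let π := bcMap f L.1.val
  haveI : Flat π := flat_bcMap f _
  haveI : IsIntegralHom π := by
    refine MorphismProperty.of_isPullback (P := @IsIntegralHom) (isPullback_bcMap f L.1.val).flip ?_
    rw [IsIntegralHom.SpecMap_iff]
    haveI : Algebra.IsIntegral L.1 Ω := Algebra.IsIntegral.tower_top (R := k)
    exact fun x => Algebra.IsIntegral.isIntegral x
  have himg : ∀ C ∈ irreducibleComponents (bcS f Ω), π '' C ∈ irreducibleComponents (bcS f L.1) := fun C hC => by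
    have h := closure_image_mem_irreducibleComponents π (Flat.generalizingMap π) hC
    rwa [(Scheme.Hom.isClosedMap π _ (isClosed_of_mem_irreducibleComponents C hC)).closure_eq] at h
  have hξ : closure {hT.1.genericPoint} = T := by
    have := hT.1.isGenericPoint_genericPoint_closure
    rwa [(isClosed_of_mem_irreducibleComponents T hT).closure_eq] at this
  obtain ⟨z, hz⟩ := (surjective_bcMap f L.1.val).surj hT.1.genericPoint
  obtain ⟨T₀, hT₀, hzT₀⟩ := exists_mem_irreducibleComponents_subset_of_isIrreducible _ (isIrreducible_singleton (x := z))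
  have e₀ : π '' T₀ = T := by
    have h1 : T ⊆ π '' T₀ := hξ ▸ closure_minimal (Set.singleton_subset_iff.2 ⟨z, hzT₀ rfl, hz⟩)
      (isClosed_of_mem_irreducibleComponents _ (himg _ hT₀))
    exact Set.Subset.antisymm (hT.2 (himg _ hT₀).1 h1) h1
  suffices π ⁻¹' T = T₀ by
    rw [show bcMap f L.1.val ⁻¹' T = T₀ from this]
    exact hT₀.1
  refine Set.Subset.antisymm (fun a ha => ?_) (Set.image_subset_iff.1 e₀.le)
  obtain ⟨w, hw, hwa⟩ := e₀.ge (show π a ∈ T from ha)
  obtain ⟨σ, hσL, hσ⟩ := trans f Ω L.1 w a hwa
  let σ' : Ω ≃ₐ[k] Ω := AlgEquiv.ofBijective σ (Algebra.IsAlgebraic.algHom_bijective σ)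
  have hT₁ : bcMap f σ '' T₀ ∈ irreducibleComponents (bcS f Ω) := image_aut_mem_irreducibleComponents f Ω σ' hT₀
  have e₁ : π '' (bcMap f σ '' T₀) = T := by
    rw [Set.image_image, ← e₀]
    refine Set.image_congr fun b _ => ?_
    show bcMap f L.1.val (bcMap f σ b) = bcMap f L.1.val b
    rw [bcMap_bcMap_apply, hσL]
  have hgen : ∀ C ∈ irreducibleComponents (bcS f Ω), π '' C = T → ∃ η ∈ G, closure {η} = C ∧ π η = hT.1.genericPoint := by
    intro C hC hCT
    have hη : closure {hC.1.genericPoint} = C := by
      have := hC.1.isGenericPoint_genericPoint_closure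
      rwa [(isClosed_of_mem_irreducibleComponents C hC).closure_eq] at this
    refine ⟨hC.1.genericPoint, show closure _ ∈ irreducibleComponents _ from hη.symm ▸ hC, hη, ?_⟩
    refine IsGenericPoint.eq (S := T) ?_ hξ
    refine Set.Subset.antisymm (closure_minimal (Set.singleton_subset_iff.2 ?_) (isClosed_of_mem_irreducibleComponents T hT)) ?_
    · exact hCT.le ⟨_, hη.le (subset_closure rfl), rfl⟩
    · rw [← hCT]
      rintro _ ⟨c, hc, rfl⟩
      exact image_closure_subset_closure_image (Scheme.Hom.continuous π) ⟨c, hη.ge hc, rfl⟩ |> fun h => by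
        rwa [Set.image_singleton] at h
  obtain ⟨η₀, hη₀, hc₀, hπ₀⟩ := hgen _ hT₀ e₀
  obtain ⟨η₁, hη₁, hc₁, hπ₁⟩ := hgen _ hT₁ e₁
  rw [← hc₀, hL hη₀ hη₁ (hπ₀.trans hπ₁.symm), hc₁]
  exact ⟨w, hw, hσ⟩

/-- a component with irreducible preimage in a separable closure is geometrically irreducible -/
theorem geometricallyIrreducible_of_preimage (L : IntermediateField k (SeparableClosure k))
    {T : Set (bcS f L)} (hirr : IsIrreducible (bcMap f L.val ⁻¹' T)) {Y : Scheme.{u}} (i : Y ⟶ bcS f L)
    [IsPreimmersion i] (hi : Set.range i = T) :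
    GeometricallyIrreducible (i ≫ pullback.snd f (Spec.map (CommRingCat.ofHom (algebraMap k L)))) := by
  let Ω := SeparableClosure k
  let fL := pullback.snd f (Spec.map (CommRingCat.ofHom (algebraMap k L)))
  refine geometricallyIrreducible_of _ fun K _ _ => ?_
  obtain ⟨M, _, _, iK, iΩ, _⟩ := GeomConnExt.exists_common_extension (k := L) K Ω
  let e : bcS f Ω ≅ pullback fL (Spec.map (CommRingCat.ofHom (algebraMap L Ω))) :=
    (isPullback_bcMap f L.val).isoPullback
  have he : e.hom ≫ pullback.fst fL (Spec.map (CommRingCat.ofHom (algebraMap L Ω))) = bcMap f L.val :=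
    IsPullback.isoPullback_hom_fst _
  have he' : e.inv ≫ bcMap f L.val = pullback.fst fL (Spec.map (CommRingCat.ofHom (algebraMap L Ω))) :=
    IsPullback.isoPullback_inv_fst _
  haveI : Algebra.IsAlgebraic L Ω := Algebra.IsAlgebraic.tower_top (K := k) L
  have h0 : IsIrreducible (pullback.fst fL (Spec.map (CommRingCat.ofHom (algebraMap L Ω))) ⁻¹' T) := by
    have h := hirr.image _ (Scheme.Hom.continuous e.hom).continuousOn
    suffices hset : pullback.fst fL (Spec.map (CommRingCat.ofHom (algebraMap L Ω))) ⁻¹' T =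
        e.hom '' (bcMap f L.val ⁻¹' T) from hset.symm ▸ h
    refine Set.ext fun z => ?_
    constructor
    · intro hz
      refine ⟨e.inv z, ?_, by rw [← Scheme.Hom.comp_apply, Iso.inv_hom_id]; rfl⟩
      show (bcMap f L.val) (e.inv z) ∈ T
      rw [← Scheme.Hom.comp_apply, he']
      exact hz
    · rintro ⟨w, hw, rfl⟩
      show _ ∈ T
      rw [← Scheme.Hom.comp_apply, he]
      exact hw
  have hK : IsIrreducible (pullback.fst fL (Spec.map (CommRingCat.ofHom (algebraMap L K))) ⁻¹' T) := by
    rw [preimage_fst_eq_image fL iK iΩ]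
    exact (isIrreducible_preimage_of_isSepClosed fL iΩ h0).image _ (Scheme.Hom.continuous _).continuousOn
  let g := Spec.map (CommRingCat.ofHom (algebraMap L K))
  let m : pullback (i ≫ fL) g ⟶ pullback fL g := pullback.map _ _ _ _ i (𝟙 _) (𝟙 _) (by simp) (by simp)
  haveI : IsPreimmersion m :=
    MorphismProperty.pullbackMap (P := @IsPreimmersion) inferInstance inferInstance rfl (Category.id_comp _).symm
  have hrange : Set.range m = pullback.fst fL g ⁻¹' T := by
    simp only [m]
    erw [Scheme.Pullback.range_map]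
    simp [hi]
  have hm := m.isEmbedding
  haveI : IrreducibleSpace (Set.range m) := by
    rw [hrange]
    exact Subtype.irreducibleSpace hK
  exact hm.toHomeomorph.symm.surjective.irreducibleSpace hm.toHomeomorph.symm.continuous

end Groth.Agent.ConnCompExt
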